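import Groth.Agent.L05.DescendFP
import Groth.Agent.L19.Limit.Smooth
import Groth.Agent.L19.Limit.QuasiFinite
import Mathlib.Algebra.Category.Ring.FilteredColimits
import Mathlib.Algebra.Category.Ring.Colimits
import Mathlib.CategoryTheory.Limits.Types.Filtered
import Mathlib.RingTheory.FiniteType
import Mathlib.RingTheory.Noetherian.Basic

/-!
# Models over finitely generated `ℤ`-subalgebras
-/

universe u

open CategoryTheory CategoryTheory.Limits AlgebraicGeometry Opposite

namespace Groth.L05.ModelFG

set_option backward.isDefEq.respectTransparency.types false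
set_option backward.isDefEq.respectTransparency false
set_option backward.defeqAttrib.useBackward true
set_option linter.style.haveILetI false

variable (A : Type u) [CommRing A]

/-- The finitely generated subrings. -/
def FG : Type u := {S : Subalgebra ℤ A // S.FG}

instance : PartialOrder (FG A) := inferInstanceAs (PartialOrder (Subtype _))

instance : Nonempty (FG A) := ⟨⟨⊥, Subalgebra.fg_bot⟩⟩

instance : IsDirected (FG A) (· ≤ ·) :=
  ⟨fun S T => ⟨⟨S.1 ⊔ T.1, S.2.sup T.2⟩, le_sup_left (a := S.1), le_sup_right (a := S.1)⟩⟩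

/-- The subrings as a diagram. -/
def diagram : FG A ⥤ CommRingCat.{u} where
  obj S := CommRingCat.of S.1
  map {S T} h := CommRingCat.ofHom (Subalgebra.inclusion (show S.1 ≤ T.1 from h.le)).toRingHom
  map_id _ := rfl
  map_comp _ _ := rfl

/-- The whole ring as a cocone. -/
def cocone : Cocone (diagram A) where
  pt := CommRingCat.of A
  ι :=
    { app := fun S => CommRingCat.ofHom (algebraMap S.1 A)
      naturality := fun _ _ _ => rfl }

/-- A ring is the union of its finitely generated subrings. -/
noncomputable def isColimitCocone : IsColimit (cocone A) := by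
  haveI : PreservesColimitsOfShape (FG A) (forget CommRingCat.{u}) := inferInstance
  haveI : HasColimitsOfShape (FG A) CommRingCat.{u} := inferInstance
  haveI : ReflectsColimitsOfShape (FG A) (forget CommRingCat.{u}) :=
    reflectsColimitsOfShape_of_reflectsIsomorphisms
  refine isColimitOfReflects (forget CommRingCat.{u}) ?_
  refine Types.FilteredColimit.isColimitOf' _ _ (fun x => ?_) (fun S x y h => ?_)
  · let x' : A := x
    exact ⟨⟨Algebra.adjoin ℤ {x'}, by simpa using Subalgebra.fg_adjoin_finset (R := ℤ) {x'}⟩,
      ⟨x', Algebra.subset_adjoin (Set.mem_singleton _)⟩, rfl⟩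
  · exact ⟨S, 𝟙 S, by rw [show x = y from Subtype.ext h]⟩

/-- The spectra of the subrings. -/
noncomputable def specDiagram : (FG A)ᵒᵖ ⥤ Scheme.{u} := (diagram A).op ⋙ Scheme.Spec

instance (S : (FG A)ᵒᵖ) : IsAffine ((specDiagram A).obj S) := inferInstanceAs (IsAffine (Spec _))

instance {S T : (FG A)ᵒᵖ} (f : S ⟶ T) : IsAffineHom ((specDiagram A).map f) :=
  isAffineHom_of_isAffine _

/-- The spectrum of the ring as a cone. -/
noncomputable def specCone : Cone (specDiagram A) := Scheme.Spec.mapCone (cocone A).op

/-- The spectrum of a ring is the limit of the spectra of its finitely generated subrings. -/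
noncomputable def isLimitSpecCone : IsLimit (specCone A) :=
  haveI : PreservesLimitsOfSize.{u, u} Scheme.Spec.{u} := ΓSpec.adjunction.rightAdjoint_preservesLimits
  isLimitOfPreserves Scheme.Spec (isColimitCocone A).op

/-- A finitely presented scheme with a descendable property has a model over a finitely generated
subring. -/
theorem exists_model {P : MorphismProperty Scheme.{u}} [P.IsStableUnderBaseChange]
    (h : Groth.L19.Limit.Descends P Groth.L19.Limit.qcqsfp) {X : Scheme.{u}}
    (f : X ⟶ Spec (CommRingCat.of A)) [LocallyOfFinitePresentation f] [QuasiCompact f]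
    [QuasiSeparated f] (hP : P f) :
    ∃ A₀ : Subalgebra ℤ A, A₀.FG ∧
      ∃ (X₀ : Scheme.{u}) (f₀ : X₀ ⟶ Spec (CommRingCat.of ↥A₀)) (g : X ⟶ X₀),
        P f₀ ∧ LocallyOfFinitePresentation f₀ ∧ QuasiCompact f₀ ∧
          IsPullback g f f₀ (Spec.map (CommRingCat.ofHom (algebraMap (↥A₀) A))) := by
  haveI : LocallyOfFinitePresentation (X := X) (Y := (specCone A).pt) f :=
    ‹LocallyOfFinitePresentation f›
  obtain ⟨j, Xj, fj, g, h1, h2, h3, hsq⟩ :=
    Groth.L05.DescendFP.exists_stage (isLimitSpecCone A) (X := X) f
  obtain ⟨k, φ, hk⟩ := h (isLimitSpecCone A) fj ⟨⟨h2, h3⟩, h1⟩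
    ((Groth.L19.Limit.pb_iff_of_isPullback hsq).mp hP)
  refine ⟨k.unop.1, k.unop.2, pullback ((specDiagram A).map φ) fj,
    pullback.fst ((specDiagram A).map φ) fj,
    pullback.lift (f ≫ (specCone A).π.app k) g (by
      rw [Category.assoc, (specCone A).w]; exact hsq.w.symm), hk,
    MorphismProperty.pullback_fst _ _ h1, MorphismProperty.pullback_fst _ _ h2, ?_⟩
  exact IsPullback.of_right (by
      show IsPullback _ f fj ((specCone A).π.app k ≫ (specDiagram A).map φ)
      rw [pullback.lift_snd, (specCone A).w]
      exact hsq)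
    (pullback.lift_fst _ _ _) (IsPullback.of_hasPullback ((specDiagram A).map φ) fj).flip

end Groth.L05.ModelFG
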