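import Groth.Agent.L19.Approx.FactorSystem
import Groth.Agent.L19.Approx.Closed
import Groth.Agent.L19.Approx.IdealStage
import Groth.Agent.L19.Limit.Factor
import Groth.Agent.L19.Limit.Pullback
import Groth.Agent.S12442
import Groth.Agent.S7383
import Mathlib.AlgebraicGeometry.IdealSheaf.Functorial

/-!
# Schemes of finite presentation over a limit come from a stage
-/

universe u

open CategoryTheory CategoryTheory.Limits AlgebraicGeometry

namespace Groth.L05.DescendFP

open Groth.L19.Limit Groth.L19.Approx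

set_option backward.isDefEq.respectTransparency.types false
set_option backward.isDefEq.respectTransparency false
set_option backward.defeqAttrib.useBackward true
set_option linter.style.haveILetI false

variable {I : Type u} [Category.{u} I] [IsCofiltered I] {D : I ⥤ Scheme.{u}} {c : Cone D}
  [∀ {i j} (f : i ⟶ j), IsAffineHom (D.map f)]

/-- A closed immersion whose ideal is pulled back from `K` is a base change of `K`. -/
theorem exists_isPullback_of_ker_eq {X B B' : Scheme.{u}} (h : X ⟶ B) [IsClosedImmersion h]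
    (t : B ⟶ B') (K : B'.IdealSheafData) (hK : K.comap t = h.ker) :
    ∃ l : X ⟶ K.subscheme, IsPullback h l t K.subschemeι := by
  have hle : K.subschemeι.ker ≤ (h ≫ t).ker := by
    rw [K.ker_subschemeι, ← Scheme.IdealSheafData.map_ker, Scheme.IdealSheafData.le_map_iff_comap_le]
    exact hK.le
  exact ⟨IsClosedImmersion.lift K.subschemeι (h ≫ t) hle, isPullback_of_isClosedImmersion h
    K.subschemeι _ t (IsClosedImmersion.lift_fac _ _ hle).symm (by rw [K.ker_subschemeι]; exact hK)⟩

/-- A finitely presented scheme over the limit is a closed subscheme of finite presentation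
of the base change of a finitely presented scheme over a given stage. -/
theorem exists_closed_in_baseChange (hc : IsLimit c) (i : I) [CompactSpace (D.obj i)]
    [QuasiSeparatedSpace (D.obj i)] {X : Scheme.{u}} (f : X ⟶ c.pt)
    [LocallyOfFinitePresentation f] [QuasiCompact f] [QuasiSeparated f] :
    ∃ (M : Scheme.{u}) (a : M ⟶ D.obj i) (B : Scheme.{u}) (q : B ⟶ M) (r : B ⟶ c.pt) (h : X ⟶ B),
      LocallyOfFinitePresentation a ∧ QuasiCompact a ∧ QuasiSeparated a ∧
        IsPullback q r a (c.π.app i) ∧ IsClosedImmersion h ∧ LocallyOfFinitePresentation h ∧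
          h ≫ r = f := by
  haveI := compactSpace_pt hc i
  haveI := quasiSeparatedSpace_pt hc i
  haveI : CompactSpace X := QuasiCompact.compactSpace_of_compactSpace f
  haveI : QuasiSeparatedSpace X := quasiSeparatedSpace_of_quasiSeparated f
  haveI := isAffineHom_π_app D c hc i
  obtain ⟨Idx, _, _, _, E, c', hc', hE, hEaff, ⟨e⟩⟩ := Groth.Agent.S7383.result (f ≫ c.π.app i)
  haveI : IsConnected Idxᵒᵖ := IsCofiltered.isConnected _
  let E' := E ⋙ Over.forget (D.obj i)
  haveI : ∀ {a b} (φ : a ⟶ b), IsAffineHom (E'.map φ) := fun φ => hEaff _ _ φ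
  let cE := (Over.forget (D.obj i)).mapCone c'
  have hcE : IsLimit cE := isLimitOfPreserves (Over.forget (D.obj i)) hc'
  obtain ⟨μ⟩ := IsCofiltered.nonempty (C := Idxᵒᵖ)
  obtain ⟨hμ1, hμ2, hμ3⟩ := hE μ
  let g : pullback (E.obj μ).hom (c.π.app i) ⟶ E'.obj μ := pullback.fst (E.obj μ).hom (c.π.app i)
  haveI : IsAffineHom g := MorphismProperty.pullback_fst _ _ inferInstance
  let sq := (IsPullback.of_hasPullback (cE.π.app μ) g).flip
  let f' : cE.pt ⟶ c.pt := e.hom.left ≫ f
  have hf' : cE.π.app μ ≫ (E.obj μ).hom = f' ≫ c.π.app i := by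
    show (c'.π.app μ).left ≫ (E.obj μ).hom = (e.hom.left ≫ f) ≫ c.π.app i
    rw [Over.w (c'.π.app μ), Category.assoc]
    exact (Over.w e.hom).symm
  let h₀ : cE.pt ⟶ pullback (cE.π.app μ) g :=
    pullback.lift (𝟙 _) (pullback.lift (cE.π.app μ) f' hf') (by
      rw [Category.id_comp]; exact (pullback.lift_fst _ _ _).symm)
  haveI : IsClosedImmersion h₀ := by
    haveI : IsClosedImmersion (h₀ ≫ pullback.fst (cE.π.app μ) g) := by
      rw [pullback.lift_fst]; infer_instance
    exact IsClosedImmersion.of_comp h₀ (pullback.fst (cE.π.app μ) g)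
  let J : Over μ := Over.mk (𝟙 μ)
  have hr : ∀ k : Over μ, h₀ ≫ toStage sq k ≫ pullback.snd (E'.map k.hom) g ≫
      pullback.snd (E.obj μ).hom (c.π.app i) = f' := fun k => by
    rw [toStage_snd_assoc, pullback.lift_snd_assoc, pullback.lift_snd]
  haveI : LocallyOfFinitePresentation f' := inferInstanceAs (LocallyOfFinitePresentation (_ ≫ f))
  haveI : CompactSpace (E'.obj μ) :=
    QuasiCompact.compactSpace_of_compactSpace (E.obj μ).hom
  haveI : CompactSpace ((bcDiagram E' g).obj J) :=
    haveI : IsAffineHom (pullback.fst (E'.map J.hom) g) :=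
      MorphismProperty.pullback_fst _ _ inferInstance
    QuasiCompact.compactSpace_of_compactSpace (Y := E'.obj μ) (pullback.fst (E'.map J.hom) g)
  haveI : LocallyOfFiniteType (h₀ ≫ (sqCone sq).π.app J) := by
    haveI : LocallyOfFiniteType ((h₀ ≫ (sqCone sq).π.app J) ≫ pullback.snd (E'.map J.hom) g ≫
        pullback.snd (E.obj μ).hom (c.π.app i)) := by
      rw [Category.assoc]
      exact (hr J).symm ▸ inferInstance
    exact locallyOfFiniteType_of_comp _ (pullback.snd (E'.map J.hom) g ≫
      pullback.snd (E.obj μ).hom (c.π.app i))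
  obtain ⟨k, -, hk⟩ := exists_isClosedImmersion_comp (isLimitSqCone hcE sq) J (Y := cE.pt) h₀
  obtain ⟨hk1, hk2, hk3⟩ := hE k.left
  have hB : IsPullback (pullback.fst (E'.map k.hom) g)
      (pullback.snd (E'.map k.hom) g ≫ pullback.snd (E.obj μ).hom (c.π.app i))
      (E.obj k.left).hom (c.π.app i) := by
    rw [← Over.w (E.map k.hom)]
    exact (IsPullback.of_hasPullback (E'.map k.hom) g).paste_vert
      (IsPullback.of_hasPullback (E.obj μ).hom (c.π.app i))
  haveI : LocallyOfFinitePresentation (pullback.snd (E'.map k.hom) g ≫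
      pullback.snd (E.obj μ).hom (c.π.app i)) := MorphismProperty.of_isPullback hB hk1
  haveI : IsIso e.hom.left := inferInstanceAs (IsIso ((Over.forget _).map e.hom))
  let h : X ⟶ pullback (E'.map k.hom) g := inv e.hom.left ≫ h₀ ≫ toStage sq k
  haveI : IsClosedImmersion (h₀ ≫ toStage sq k) := hk
  have hhr : h ≫ pullback.snd (E'.map k.hom) g ≫ pullback.snd (E.obj μ).hom (c.π.app i) = f := by
    simp only [h, Category.assoc, hr k]
    exact IsIso.inv_hom_id_assoc e.hom.left f
  haveI : LocallyOfFinitePresentation (h ≫ pullback.snd (E'.map k.hom) g ≫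
      pullback.snd (E.obj μ).hom (c.π.app i)) := hhr.symm ▸ inferInstance
  exact ⟨(E.obj k.left).left, (E.obj k.left).hom, _, _, _, h, hk1, hk2, hk3, hB,
    inferInstanceAs (IsClosedImmersion (inv e.hom.left ≫ h₀ ≫ toStage sq k)),
    Groth.Agent.S12442.result h (pullback.snd (E'.map k.hom) g ≫
      pullback.snd (E.obj μ).hom (c.π.app i)), hhr⟩

/-- A scheme of finite presentation over the limit comes from a stage. -/
theorem exists_stage (hc : IsLimit c) [∀ i, CompactSpace (D.obj i)]
    [∀ i, QuasiSeparatedSpace (D.obj i)] {X : Scheme.{u}} (f : X ⟶ c.pt)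
    [LocallyOfFinitePresentation f] [QuasiCompact f] [QuasiSeparated f] :
    ∃ (j : I) (Xj : Scheme.{u}) (fj : Xj ⟶ D.obj j) (g : X ⟶ Xj),
      LocallyOfFinitePresentation fj ∧ QuasiCompact fj ∧ QuasiSeparated fj ∧
        IsPullback g f fj (c.π.app j) := by
  obtain ⟨i⟩ := IsCofiltered.nonempty (C := I)
  obtain ⟨M, a, B, q, r, h, ha1, ha2, ha3, hB, hh1, hh2, hhr⟩ :=
    exists_closed_in_baseChange hc i f
  haveI : ∀ k : Over i, CompactSpace ((bcDiagram D a).obj k) := fun k =>
    haveI : QuasiCompact (pullback.fst (D.map k.hom) a) := MorphismProperty.pullback_fst _ _ ha2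
    QuasiCompact.compactSpace_of_compactSpace (pullback.fst (D.map k.hom) a)
  haveI : ∀ k : Over i, QuasiSeparatedSpace ((bcDiagram D a).obj k) := fun k =>
    haveI : QuasiSeparated (pullback.fst (D.map k.hom) a) := MorphismProperty.pullback_fst _ _ ha3
    quasiSeparatedSpace_of_quasiSeparated (pullback.fst (D.map k.hom) a)
  obtain ⟨j, K, hK, hKh⟩ := exists_fgOn_stage (isLimitSqCone hc hB) h.ker (fgOn_ker h)
  haveI := lfp_subschemeι hK
  haveI : LocallyOfFinitePresentation (pullback.fst (D.map j.hom) a) :=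
    MorphismProperty.pullback_fst _ _ ha1
  haveI : QuasiCompact (pullback.fst (D.map j.hom) a) := MorphismProperty.pullback_fst _ _ ha2
  haveI : QuasiSeparated (pullback.fst (D.map j.hom) a) := MorphismProperty.pullback_fst _ _ ha3
  let t : B ⟶ pullback (D.map j.hom) a := toStage hB j
  have ht : IsPullback t r (pullback.fst (D.map j.hom) a) (c.π.app j.left) :=
    IsPullback.of_right (by rw [toStage_snd, c.w]; exact hB) (toStage_fst hB j)
      (IsPullback.of_hasPullback (D.map j.hom) a).flip
  obtain ⟨l, hl⟩ := exists_isPullback_of_ker_eq h t K hKh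
  refine ⟨j.left, K.subscheme, K.subschemeι ≫ pullback.fst (D.map j.hom) a,
    l, inferInstance, inferInstance, inferInstance, ?_⟩
  simpa only [hhr] using hl.flip.paste_vert ht

end Groth.L05.DescendFP
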