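import Groth.Agent.L20.Weight.Lifts
import Groth.Agent.L23.QFDescent
import Mathlib.AlgebraicGeometry.Stalk
import Mathlib.RingTheory.HopkinsLevitzki
import Mathlib.RingTheory.Noetherian.OfPrime
import Mathlib.RingTheory.LocalRing.ResidueField.Basic
import Mathlib.RingTheory.Etale.Basic
import Mathlib.AlgebraicGeometry.Morphisms.Etale

/-!
# Lifting along surjections of artinian local rings
-/

set_option autoImplicit false
set_option linter.style.haveILetI false
set_option backward.isDefEq.respectTransparency.types false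
set_option backward.isDefEq.respectTransparency false

universe u

open CategoryTheory AlgebraicGeometry

namespace Groth.L05.ArtinLift

/-- The lifting property at a point, for residually trivial test objects. -/
def LiftsAt {T S : Scheme.{u}} (g : T ⟶ S) (t : T) : Prop :=
  ∀ (C C' : Type u) [CommRing C] [CommRing C'] [IsLocalRing C] [IsLocalRing C'] [IsArtinianRing C]
      [IsArtinianRing C'] (π : C' →+* C), Function.Surjective π →
      ∀ (a : Spec (CommRingCat.of C) ⟶ T) (b : Spec (CommRingCat.of C') ⟶ S),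
        a (IsLocalRing.closedPoint C) = t →
        Function.Surjective (a.residueFieldMap (IsLocalRing.closedPoint C)).hom →
        Spec.map (CommRingCat.ofHom π) ≫ b = a ≫ g →
        ∃ c : Spec (CommRingCat.of C') ⟶ T, Spec.map (CommRingCat.ofHom π) ≫ c = a ∧ c ≫ g = b

/-- The elements of `R` whose image lies in a subfield. -/
abbrev preimageSubfield {R k : Type u} [CommRing R] [Field k] (ρ : R →+* k) (K : Subfield k) :
    Subring R :=
  K.toSubring.comap ρ

theorem isLocal_and_artinian {R k : Type u} [CommRing R] [IsLocalRing R] [IsArtinianRing R] [Field k]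
    (ρ : R →+* k) (hρ : Function.Surjective ρ) (K : Subfield k) [Module.Finite K k] :
    IsLocalRing (preimageSubfield ρ K) ∧ IsArtinianRing (preimageSubfield ρ K) := by
  classical
  set R0 := preimageSubfield ρ K
  have hkerρ : RingHom.ker ρ = IsLocalRing.maximalIdeal R :=
    IsLocalRing.eq_maximalIdeal (RingHom.ker_isMaximal_of_surjective ρ hρ)
  have hnil : ∀ x : R, ρ x = 0 → IsNilpotent x := by
    intro x hx
    obtain ⟨n, hn⟩ := IsArtinianRing.isNilpotent_jacobson_bot (R := R)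
    refine ⟨n, ?_⟩
    have hx' : x ∈ Ideal.jacobson (⊥ : Ideal R) := by
      rw [IsLocalRing.jacobson_eq_maximalIdeal ⊥ bot_ne_top, ← hkerρ]
      exact hx
    have := Ideal.pow_mem_pow hx' n
    rwa [hn, Ideal.zero_eq_bot, Ideal.mem_bot] at this
  have hunit : ∀ x : R0, ρ x.1 ≠ 0 → IsUnit x := by
    intro x hx
    have hxu : IsUnit x.1 := by
      by_contra h
      exact hx (show x.1 ∈ RingHom.ker ρ by rw [hkerρ]; exact h)
    obtain ⟨y, hy⟩ := hxu.exists_right_inv
    have hyK : ρ y ∈ K := by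
      have h1 : ρ x.1 * ρ y = 1 := by rw [← map_mul, hy, map_one]
      rw [eq_inv_of_mul_eq_one_right h1]
      exact K.inv_mem x.2
    exact IsUnit.of_mul_eq_one (⟨y, hyK⟩ : R0) (Subtype.ext hy)
  haveI : Nontrivial R0 := ⟨0, 1, fun h => zero_ne_one (congrArg Subtype.val h : (0 : R) = 1)⟩
  have hloc : IsLocalRing R0 := .of_isUnit_or_isUnit_one_sub_self fun x => by
    by_cases h : ρ x.1 = 0
    · refine Or.inr (hunit _ ?_)
      show ρ (1 - x.1) ≠ 0
      rw [map_sub, map_one, h, sub_zero]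
      exact one_ne_zero
    · exact Or.inl (hunit x h)
  refine ⟨hloc, ?_⟩
  haveI : Module.Finite R0 R := by
    obtain ⟨s, hs⟩ := (inferInstance : Module.Finite K k).fg_top
    let σ := Function.surjInv hρ
    refine ⟨insert 1 (s.image σ), top_le_iff.mp fun x _ => ?_⟩
    have key : ∀ z ∈ Submodule.span K (s : Set k),
        ∃ y ∈ Submodule.span R0 ((insert 1 (s.image σ) : Finset R) : Set R), ρ y = z := by
      intro z hz
      refine Submodule.span_induction (p := fun z _ => ∃ y ∈ Submodule.span R0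
        ((insert 1 (s.image σ) : Finset R) : Set R), ρ y = z) ?_ ⟨0, zero_mem _, map_zero _⟩ ?_ ?_ hz
      · intro c hc
        exact ⟨σ c, Submodule.subset_span (by simpa using Or.inr ⟨c, hc, rfl⟩),
          Function.surjInv_eq hρ c⟩
      · rintro a b - - ⟨ya, hya, rfl⟩ ⟨yb, hyb, rfl⟩
        exact ⟨ya + yb, add_mem hya hyb, map_add _ _ _⟩
      · rintro l a - ⟨ya, hya, rfl⟩
        obtain ⟨lt, hlt⟩ := hρ l.1
        have hlK : ρ lt ∈ K := hlt ▸ l.2
        refine ⟨(⟨lt, hlK⟩ : R0) • ya, Submodule.smul_mem _ _ hya, ?_⟩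
        show ρ (lt * ya) = l.1 * ρ ya
        rw [map_mul, hlt]
    obtain ⟨y, hy, hyx⟩ := key (ρ x) (hs ▸ Submodule.mem_top)
    have hd : ρ (x - y) = 0 := by rw [map_sub, hyx, sub_self]
    have hdK : ρ (x - y) ∈ K := hd ▸ K.zero_mem
    have : x = y + (⟨x - y, hdK⟩ : R0) • (1 : R) := by
      show x = y + (x - y) * 1
      ring
    rw [this]
    exact add_mem hy (Submodule.smul_mem _ _ (Submodule.subset_span (by simp)))
  set m0 := RingHom.ker (ρ.comp R0.subtype)
  have hm0 : m0.FG := by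
    refine Submodule.fg_of_fg_map_injective (Algebra.linearMap R0 R) Subtype.val_injective ?_
    have : Submodule.map (Algebra.linearMap R0 R) m0 = (RingHom.ker ρ).restrictScalars R0 := by
      ext x
      refine ⟨?_, fun hx => ?_⟩
      · rintro ⟨z, hz, rfl⟩
        exact hz
      · have hxK : ρ x ∈ K := (RingHom.mem_ker.mp hx) ▸ K.zero_mem
        exact ⟨⟨x, hxK⟩, hx, rfl⟩
    rw [this]
    exact Submodule.FG.restrictScalars (IsNoetherian.noetherian (RingHom.ker ρ))
  have hprime : ∀ P : Ideal R0, P.IsPrime → P = m0 := by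
    intro P hP
    refine le_antisymm (fun x hx => ?_) fun x hx => ?_
    · by_contra h
      exact hP.ne_top (Ideal.eq_top_of_isUnit_mem _ hx (hunit x h))
    · obtain ⟨n, hn⟩ := hnil x.1 hx
      refine hP.mem_of_pow_mem n ?_
      rw [show x ^ n = 0 from Subtype.ext hn]
      exact zero_mem _
  haveI : IsNoetherianRing R0 := IsNoetherianRing.of_prime fun P hP => (hprime P hP).symm ▸ hm0
  haveI : Ring.KrullDimLE 0 R0 := Ring.krullDimLE_zero_iff.mpr fun P hP => by
    rw [hprime P hP]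
    refine ⟨⟨?_, fun J hJ => ?_⟩⟩
    · exact (hprime P hP) ▸ hP.ne_top
    · obtain ⟨x, hxJ, hx⟩ := SetLike.exists_of_lt hJ
      exact Ideal.eq_top_of_isUnit_mem _ hxJ (hunit x hx)
  exact IsNoetherianRing.isArtinianRing_of_krullDimLE_zero

variable {X : Scheme.{u}}

/-- Maps out of spectra of local rings through an injective local map. -/
theorem specMap_fromSpecStalk_cancel {R : CommRingCat.{u}} [IsLocalRing R] {x y : X}
    {φ : X.presheaf.stalk x ⟶ R} {ψ : X.presheaf.stalk y ⟶ R} [IsLocalHom φ.hom] [IsLocalHom ψ.hom]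
    (h : Spec.map φ ≫ X.fromSpecStalk x = Spec.map ψ ≫ X.fromSpecStalk y) :
    ∀ z, ∃ w, ψ.hom w = φ.hom z := by
  have h' := (SpecToEquivOfLocalRing X R).symm.injective
    (a₁ := ⟨x, φ, inferInstance⟩) (a₂ := ⟨y, ψ, inferInstance⟩) h
  cases h'
  exact fun z => ⟨z, rfl⟩

/-- Maps that agree after an injective map agree. -/
theorem specMap_fromSpecStalk_mono {R R' : CommRingCat.{u}} [IsLocalRing R'] {x y : X}
    {φ : X.presheaf.stalk x ⟶ R} {ψ : X.presheaf.stalk y ⟶ R} (ι : R ⟶ R')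
    (hι : Function.Injective ι.hom) [IsLocalHom (φ ≫ ι).hom] [IsLocalHom (ψ ≫ ι).hom]
    (h : Spec.map ι ≫ Spec.map φ ≫ X.fromSpecStalk x = Spec.map ι ≫ Spec.map ψ ≫ X.fromSpecStalk y) :
    Spec.map φ ≫ X.fromSpecStalk x = Spec.map ψ ≫ X.fromSpecStalk y := by
  rw [← Category.assoc, ← Category.assoc, ← Spec.map_comp, ← Spec.map_comp] at h
  have h' := (SpecToEquivOfLocalRing X R').symm.injective
    (a₁ := ⟨x, φ ≫ ι, inferInstance⟩) (a₂ := ⟨y, ψ ≫ ι, inferInstance⟩) h
  obtain ⟨rfl, h''⟩ := Sigma.mk.inj_iff.mp h'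
  have hφψ : φ ≫ ι = ψ ≫ ι := congrArg Subtype.val (eq_of_heq h'')
  rw [show φ = ψ from CommRingCat.hom_ext (RingHom.ext fun z => hι (DFunLike.congr_fun
    (congrArg CommRingCat.Hom.hom hφψ) z))]

theorem point_of_specMap_fromSpecStalk {R : CommRingCat.{u}} [IsLocalRing R] {x : X}
    (φ : X.presheaf.stalk x ⟶ R) [IsLocalHom φ.hom] :
    (Spec.map φ ≫ X.fromSpecStalk x) (IsLocalRing.closedPoint R) = x := by
  rw [Scheme.Hom.comp_apply, Spec_closedPoint, Scheme.fromSpecStalk_closedPoint]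

/-- The residue map of a point with values in a local ring. -/
theorem residueFieldMap_surjective_of {R : CommRingCat.{u}} [IsLocalRing R] (a : Spec R ⟶ X)
    (h : ∀ r : R, ∃ z, r - (Scheme.stalkClosedPointTo a).hom z ∈ IsLocalRing.maximalIdeal R) :
    Function.Surjective (a.residueFieldMap (IsLocalRing.closedPoint R)).hom := by
  intro w
  obtain ⟨v, rfl⟩ := (Spec R).residue_surjective (IsLocalRing.closedPoint R) w
  obtain ⟨z, hz⟩ := h ((stalkClosedPointIso R).hom v)
  refine ⟨X.residue _ z, ?_⟩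
  have h1 : (a.residueFieldMap _).hom (X.residue _ z) =
      (Spec R).residue _ ((a.stalkMap _).hom z) :=
    congrArg (fun φ => φ.hom z) (Scheme.residue_residueFieldMap a (IsLocalRing.closedPoint R))
  rw [h1]
  refine sub_eq_zero.mp ?_
  rw [← map_sub]
  refine (IsLocalRing.residue_eq_zero_iff _).mpr fun hu => hz ?_
  have hu' := hu.map (stalkClosedPointIso R).hom.hom
  rw [map_sub] at hu'
  rw [← neg_sub]
  exact hu'.neg

/-- Finite residue maps, on the level of rings. -/
theorem finite_residue {C : Type u} [CommRing C] [IsLocalRing C] (a : Spec (CommRingCat.of C) ⟶ X)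
    (h : (a.residueFieldMap (IsLocalRing.closedPoint C)).hom.Finite) :
    (IsLocalRing.ResidueField.map (Scheme.stalkClosedPointTo a).hom).Finite := by
  let e := stalkClosedPointIso (CommRingCat.of C)
  haveI : IsLocalHom e.hom.hom := isLocalHom_of_isIso e.hom
  have heq : IsLocalRing.ResidueField.map (Scheme.stalkClosedPointTo a).hom =
      (IsLocalRing.ResidueField.map e.hom.hom).comp
        (a.residueFieldMap (IsLocalRing.closedPoint C)).hom := by
    refine RingHom.ext fun w => ?_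
    obtain ⟨z, rfl⟩ := IsLocalRing.residue_surjective w
    rfl
  rw [heq]
  refine RingHom.Finite.comp (RingHom.Finite.of_surjective _ fun w => ?_) h
  obtain ⟨c, rfl⟩ := IsLocalRing.residue_surjective w
  exact ⟨IsLocalRing.residue _ (e.inv.hom c), congrArg (IsLocalRing.residue C)
    (congrArg (fun φ => φ.hom c) e.inv_hom_id)⟩

variable {T S : Scheme.{u}} (g : T ⟶ S)

/-- Residually finite test objects lift as soon as residually trivial ones do. -/
theorem lift_of_finite {t : T} (hT : LiftsAt g t) (C C' : Type u) [CommRing C] [CommRing C']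
    [IsLocalRing C] [IsLocalRing C'] [IsArtinianRing C] [IsArtinianRing C'] (π : C' →+* C)
    (hπ : Function.Surjective π) (a : Spec (CommRingCat.of C) ⟶ T) (b : Spec (CommRingCat.of C') ⟶ S)
    (ha : a (IsLocalRing.closedPoint C) = t)
    (hfin : (a.residueFieldMap (IsLocalRing.closedPoint C)).hom.Finite)
    (hw : Spec.map (CommRingCat.ofHom π) ≫ b = a ≫ g) :
    ∃ c : Spec (CommRingCat.of C') ⟶ T, Spec.map (CommRingCat.ofHom π) ≫ c = a ∧ c ≫ g = b := by
  subst ha
  let φ := Scheme.stalkClosedPointTo a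
  let β := Scheme.stalkClosedPointTo b
  haveI : IsLocalHom π := IsLocalHom.of_surjective π hπ
  let ψ := IsLocalRing.ResidueField.map φ.hom
  let K := ψ.fieldRange
  have hψ : ψ.Finite := finite_residue a hfin
  haveI : Module.Finite K (IsLocalRing.ResidueField C) := by
    letI := ψ.toAlgebra
    obtain ⟨s, hs⟩ := hψ.fg_top
    refine ⟨s, top_le_iff.mp fun x _ => ?_⟩
    refine Submodule.span_induction (p := fun x _ => x ∈ Submodule.span K (s : Set _))
      (fun y hy => Submodule.subset_span hy) (zero_mem _) (fun _ _ _ _ => add_mem) ?_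
      (hs ▸ Submodule.mem_top : x ∈ Submodule.span _ (s : Set _))
    intro r y _ hy
    exact Submodule.smul_mem _ (⟨ψ r, r, rfl⟩ : K) hy
  let ρ := IsLocalRing.residue C
  obtain ⟨hlC, haC⟩ := isLocal_and_artinian ρ IsLocalRing.residue_surjective K
  obtain ⟨hlC', haC'⟩ := isLocal_and_artinian (ρ.comp π) (IsLocalRing.residue_surjective.comp hπ) K
  let C0 := preimageSubfield ρ K
  let C0' := preimageSubfield (ρ.comp π) K
  have hφK : ∀ z, φ.hom z ∈ C0 := fun z => ⟨IsLocalRing.residue _ z, rfl⟩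
  haveI hφloc : IsLocalHom φ.hom := inferInstance
  -- the image of the local ring of `S`
  have hwS : Spec.map (β ≫ CommRingCat.ofHom π) ≫ S.fromSpecStalk _ =
      Spec.map (g.stalkMap _ ≫ φ) ≫ S.fromSpecStalk _ := by
    rw [Spec.map_comp, Category.assoc, Scheme.Spec_stalkClosedPointTo_fromSpecStalk, hw, Spec.map_comp,
      Category.assoc, Scheme.SpecMap_stalkMap_fromSpecStalk, ← Category.assoc,
      Scheme.Spec_stalkClosedPointTo_fromSpecStalk]
  haveI : IsLocalHom (β ≫ CommRingCat.ofHom π).hom := inferInstanceAs (IsLocalHom (π.comp β.hom))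
  haveI : IsLocalHom (g.stalkMap (a (IsLocalRing.closedPoint C)) ≫ φ).hom :=
    inferInstanceAs (IsLocalHom (φ.hom.comp (g.stalkMap _).hom))
  have hβK : ∀ y, β.hom y ∈ C0' := fun y => by
    obtain ⟨w, hw'⟩ := specMap_fromSpecStalk_cancel hwS y
    show ρ (π (β.hom y)) ∈ K
    have h1 : π (β.hom y) = φ.hom ((g.stalkMap _).hom w) := hw'.symm
    rw [h1]
    exact hφK _
  let φ0 : T.presheaf.stalk (a (IsLocalRing.closedPoint C)) ⟶ CommRingCat.of C0 :=
    CommRingCat.ofHom (φ.hom.codRestrict C0 hφK)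
  let β0 : S.presheaf.stalk (b (IsLocalRing.closedPoint C')) ⟶ CommRingCat.of C0' :=
    CommRingCat.ofHom (β.hom.codRestrict C0' hβK)
  let π0 : C0' →+* C0 := (π.comp C0'.subtype).codRestrict C0 fun x => x.2
  have hπ0 : Function.Surjective π0 := fun x => by
    obtain ⟨y, hy⟩ := hπ x.1
    have hyK : ρ (π y) ∈ K := hy.symm ▸ x.2
    exact ⟨⟨y, hyK⟩, Subtype.ext hy⟩
  haveI : IsLocalHom φ0.hom := ⟨fun z hz => hφloc.map_nonunit z (hz.map C0.subtype)⟩
  haveI : IsLocalHom β0.hom := ⟨fun z hz => IsLocalHom.map_nonunit (f := β.hom) z (hz.map C0'.subtype)⟩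
  let a0 : Spec (CommRingCat.of C0) ⟶ T := Spec.map φ0 ≫ T.fromSpecStalk _
  let b0 : Spec (CommRingCat.of C0') ⟶ S := Spec.map β0 ≫ S.fromSpecStalk _
  let ι : CommRingCat.of C0 ⟶ CommRingCat.of C := CommRingCat.ofHom C0.subtype
  let ι' : CommRingCat.of C0' ⟶ CommRingCat.of C' := CommRingCat.ofHom C0'.subtype
  have haι : Spec.map ι ≫ a0 = a := by
    rw [show Spec.map ι ≫ a0 = Spec.map (φ0 ≫ ι) ≫ T.fromSpecStalk _ by rw [Spec.map_comp]; rfl]
    exact Scheme.Spec_stalkClosedPointTo_fromSpecStalk a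
  have hbι : Spec.map ι' ≫ b0 = b := by
    rw [show Spec.map ι' ≫ b0 = Spec.map (β0 ≫ ι') ≫ S.fromSpecStalk _ by rw [Spec.map_comp]; rfl]
    exact Scheme.Spec_stalkClosedPointTo_fromSpecStalk b
  have hw0 : Spec.map (CommRingCat.ofHom π0) ≫ b0 = a0 ≫ g := by
    haveI : IsLocalHom ((β0 ≫ CommRingCat.ofHom π0) ≫ ι).hom :=
      inferInstanceAs (IsLocalHom (π.comp β.hom))
    haveI : IsLocalHom ((g.stalkMap (a (IsLocalRing.closedPoint C)) ≫ φ0) ≫ ι).hom :=
      inferInstanceAs (IsLocalHom (φ.hom.comp (g.stalkMap _).hom))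
    have := specMap_fromSpecStalk_mono (φ := β0 ≫ CommRingCat.ofHom π0)
      (ψ := g.stalkMap (a (IsLocalRing.closedPoint C)) ≫ φ0) ι Subtype.val_injective (by
        simp only [← Category.assoc, ← Spec.map_comp]
        exact hwS)
    rw [Spec.map_comp, Category.assoc, Spec.map_comp, Category.assoc,
      Scheme.SpecMap_stalkMap_fromSpecStalk, ← Category.assoc _ _ g] at this
    exact this
  obtain ⟨c0, hc0, hc0g⟩ := hT C0 C0' π0 hπ0 a0 b0 (point_of_specMap_fromSpecStalk φ0) (by
    refine residueFieldMap_surjective_of a0 fun r => ?_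
    obtain ⟨w, hw'⟩ := r.2
    obtain ⟨z, rfl⟩ := IsLocalRing.residue_surjective w
    obtain ⟨z', hz'⟩ := specMap_fromSpecStalk_cancel (φ := φ0)
      (ψ := Scheme.stalkClosedPointTo a0)
      (Scheme.Spec_stalkClosedPointTo_fromSpecStalk a0).symm z
    refine ⟨z', fun hu => ?_⟩
    rw [hz'] at hu
    have hu' := hu.map C0.subtype
    refine (IsLocalRing.residue_eq_zero_iff (r.1 - φ.hom z)).mp ?_ hu'
    rw [map_sub, sub_eq_zero]
    exact hw'.symm) hw0
  refine ⟨Spec.map ι' ≫ c0, ?_, by rw [Category.assoc, hc0g, hbι]⟩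
  rw [← Category.assoc, ← Spec.map_comp,
    show ι' ≫ CommRingCat.ofHom π = CommRingCat.ofHom π0 ≫ ι from rfl, Spec.map_comp, Category.assoc,
    hc0, haι]

theorem exists_factor {R : CommRingCat.{u}} [IsLocalRing R] (f : Spec R ⟶ X) {V : X.Opens}
    (hV : IsAffineOpen V) (hf : f (IsLocalRing.closedPoint R) ∈ V) :
    ∃ ψ : Γ(X, V) ⟶ R, Spec.map ψ ≫ hV.fromSpec = f := by
  have hr : Set.range f ⊆ Set.range hV.fromSpec := by
    rw [hV.range_fromSpec]
    rintro _ ⟨z, rfl⟩
    have : z ∈ f ⁻¹ᵁ V := by rw [Scheme.preimage_eq_top_of_closedPoint_mem f hf]; trivial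
    exact this
  exact ⟨Spec.preimage (IsOpenImmersion.lift hV.fromSpec f hr), by simp⟩

/-- Etale maps lift along nilpotent thickenings. -/
theorem lift_of_etale {U : Scheme.{u}} (e : U ⟶ T) [Etale e] (C C' : Type u) [CommRing C] [CommRing C']
    [IsLocalRing C] [IsLocalRing C'] [IsArtinianRing C'] (π : C' →+* C) (hπ : Function.Surjective π)
    (a : Spec (CommRingCat.of C) ⟶ U) (c : Spec (CommRingCat.of C') ⟶ T)
    (hw : Spec.map (CommRingCat.ofHom π) ≫ c = a ≫ e) :
    ∃ c' : Spec (CommRingCat.of C') ⟶ U, Spec.map (CommRingCat.ofHom π) ≫ c' = a ∧ c' ≫ e = c := by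
  obtain ⟨_, ⟨W, hW, rfl⟩, htW, -⟩ := T.isBasis_affineOpens.exists_subset_of_mem_open
    (Set.mem_univ (c (IsLocalRing.closedPoint C'))) isOpen_univ
  haveI : IsLocalHom π := IsLocalHom.of_surjective π hπ
  haveI : IsLocalHom (CommRingCat.ofHom π).hom := inferInstanceAs (IsLocalHom π)
  have hmem : a (IsLocalRing.closedPoint C) ∈ e ⁻¹ᵁ W := by
    show e (a (IsLocalRing.closedPoint C)) ∈ W
    rw [← Scheme.Hom.comp_apply, ← hw, Scheme.Hom.comp_apply, Spec_closedPoint]
    exact htW
  obtain ⟨_, ⟨V, hV, rfl⟩, huV, hVW⟩ := U.isBasis_affineOpens.exists_subset_of_mem_open hmem (e ⁻¹ᵁ W).isOpen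
  obtain ⟨ψ, hψ⟩ := exists_factor a hV huV
  obtain ⟨η, hη⟩ := exists_factor c hW htW
  let θ := e.appLE W V hVW
  have hcomm : η ≫ CommRingCat.ofHom π = θ ≫ ψ := by
    refine Spec.map_injective ((cancel_mono hW.fromSpec).mp ?_)
    rw [Spec.map_comp, Category.assoc, hη, hw, Spec.map_comp, Category.assoc,
      IsAffineOpen.SpecMap_appLE_fromSpec e hW hV hVW, ← Category.assoc, hψ]
  algebraize [θ.hom]
  haveI : Algebra.Etale Γ(T, W) Γ(U, V) :=
    HasRingHomProperty.appLE (P := @Etale) e inferInstance ⟨W, hW⟩ ⟨V, hV⟩ hVW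
  letI : Algebra Γ(T, W) C' := η.hom.toAlgebra
  letI : Algebra Γ(T, W) C := (π.comp η.hom).toAlgebra
  let πa : C' →ₐ[Γ(T, W)] C := { π with commutes' := fun _ => rfl }
  let ψa : Γ(U, V) →ₐ[Γ(T, W)] C :=
    { ψ.hom with commutes' := fun x => (congrArg (fun f => f.hom x) hcomm).symm }
  have hker : IsNilpotent (RingHom.ker (πa : C' →+* C)) := by
    obtain ⟨n, hn⟩ := IsArtinianRing.isNilpotent_jacobson_bot (R := C')
    refine ⟨n, eq_bot_iff.mpr ((Ideal.pow_right_mono ?_ n).trans hn.le)⟩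
    rw [IsLocalRing.jacobson_eq_maximalIdeal ⊥ bot_ne_top]
    exact IsLocalRing.le_maximalIdeal (RingHom.ker_ne_top _)
  obtain ⟨L, hL⟩ : ∃ L : Γ(U, V) →ₐ[Γ(T, W)] C', πa.comp L = ψa :=
    ⟨Algebra.FormallySmooth.liftOfSurjective ψa πa hπ hker,
      Algebra.FormallySmooth.comp_liftOfSurjective ψa πa hπ hker⟩
  refine ⟨Spec.map (CommRingCat.ofHom L.toRingHom) ≫ hV.fromSpec, ?_, ?_⟩
  · rw [← Category.assoc, ← Spec.map_comp, show CommRingCat.ofHom L.toRingHom ≫ CommRingCat.ofHom π = ψ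
      from CommRingCat.hom_ext (RingHom.ext fun x => DFunLike.congr_fun hL x), hψ]
  · rw [Category.assoc, ← IsAffineOpen.SpecMap_appLE_fromSpec e hW hV hVW, ← Category.assoc,
      ← Spec.map_comp, show θ ≫ CommRingCat.ofHom L.toRingHom = η from
        CommRingCat.hom_ext (RingHom.ext fun x => L.commutes x), hη]

/-- The lifting property passes to étale neighbourhoods. -/
theorem liftsAt_of_etale {U : Scheme.{u}} (e : U ⟶ T) [Etale e] (u : U) (hT : LiftsAt g (e u)) :
    LiftsAt (e ≫ g) u := by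
  intro C C' _ _ _ _ _ _ π hπ a b ha hres hw
  have hfin : ((a ≫ e).residueFieldMap (IsLocalRing.closedPoint C)).hom.Finite := by
    rw [Scheme.residueFieldMap_comp, CommRingCat.hom_comp]
    exact RingHom.Finite.comp (RingHom.Finite.of_surjective _ hres)
      (Groth.L20.Weight.finite_residueFieldMap e _)
  obtain ⟨c, hc, hcg⟩ := lift_of_finite g hT C C' π hπ (a ≫ e) b
    (by rw [Scheme.Hom.comp_apply, ha]) hfin (by rw [hw, Category.assoc])
  obtain ⟨c', hc', hc'e⟩ := lift_of_etale e C C' π hπ a c hc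
  exact ⟨c', hc', by rw [← Category.assoc, hc'e, hcg]⟩

end Groth.L05.ArtinLift
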