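import Mathlib.AlgebraicGeometry.Limits
import Mathlib.AlgebraicGeometry.PullbackCarrier
import Mathlib.AlgebraicGeometry.Morphisms.Finite

/-!
# Lifting clopen subsets along disjoint unions
-/

set_option autoImplicit false
set_option linter.style.haveILetI false

universe u

open CategoryTheory CategoryTheory.Limits AlgebraicGeometry

namespace Groth.L05.ClopenSigma

/-- Clopen subsets of `Z` extend uniquely to clopen subsets of `Y`. -/
def Lifts {Y : Type u} [TopologicalSpace Y] (Z : Set Y) : Prop :=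
  ∀ V : Set Z, IsClopen V → ∃! U : Set Y, IsClopen U ∧ Subtype.val ⁻¹' U = V

theorem lifts_range_iff {Y W : Type u} [TopologicalSpace Y] [TopologicalSpace W] {p : W → Y}
    (hp : Topology.IsEmbedding p) :
    (∀ V : Set W, IsClopen V → ∃! U : Set Y, IsClopen U ∧ p ⁻¹' U = V) ↔ Lifts (Set.range p) := by
  set e := hp.toHomeomorph
  have he : ∀ U : Set Y, p ⁻¹' U = e ⁻¹' (Subtype.val ⁻¹' U) := fun U => rfl
  constructor
  · intro h V hV
    refine (existsUnique_congr fun U => and_congr_right fun _ => ?_).mp (h (e ⁻¹' V) (hV.preimage e.continuous))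
    rw [he]
    exact e.surjective.preimage_injective.eq_iff
  · intro h V hV
    refine (existsUnique_congr fun U => and_congr_right fun _ => ?_).mp (h (e.symm ⁻¹' V) (hV.preimage e.symm.continuous))
    rw [he]
    refine ⟨fun hU => ?_, fun hU => ?_⟩
    · rw [hU, ← Set.preimage_comp, e.symm_comp_self, Set.preimage_id]
    · rw [← hU, ← Set.preimage_comp, e.self_comp_symm, Set.preimage_id]

theorem Lifts.of_family {Y : Type u} [TopologicalSpace Y] {Z : Set Y} {ι : Type u} {Yj : ι → Type u}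
    [∀ j, TopologicalSpace (Yj j)] (q : ∀ j, Yj j → Y) (hq : ∀ j, Topology.IsOpenEmbedding (q j))
    (hdisj : ∀ j k, j ≠ k → Disjoint (Set.range (q j)) (Set.range (q k)))
    (hcov : ∀ y, ∃ j, y ∈ Set.range (q j)) (h : ∀ j, Lifts (q j ⁻¹' Z)) : Lifts Z := by
  intro V hV
  let r : ∀ j, (q j ⁻¹' Z : Set (Yj j)) → Z := fun j x => ⟨q j x.1, x.2⟩
  have hr : ∀ j, Continuous (r j) := fun j =>
    Continuous.subtype_mk ((hq j).continuous.comp continuous_subtype_val) _
  choose U hU hUu using fun j => h j (r j ⁻¹' V) (hV.preimage (hr j))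
  have hmem : ∀ (j : ι) (y : Yj j), q j y ∈ ⋃ k, q k '' U k ↔ y ∈ U j := by
    intro j y
    refine ⟨fun hy => ?_, fun hy => Set.mem_iUnion.mpr ⟨j, y, hy, rfl⟩⟩
    obtain ⟨k, z, hz, hzy⟩ := Set.mem_iUnion.mp hy
    by_cases hjk : j = k
    · subst hjk
      rwa [← (hq j).injective hzy]
    · exact ((hdisj j k hjk).ne_of_mem ⟨y, rfl⟩ ⟨z, rfl⟩ hzy.symm).elim
  have hcompl : (⋃ k, q k '' U k)ᶜ = ⋃ k, q k '' (U k)ᶜ := by
    ext y
    obtain ⟨j, x, rfl⟩ := hcov y
    refine ⟨fun hy => Set.mem_iUnion.mpr ⟨j, x, fun hx => hy ((hmem j x).mpr hx), rfl⟩, fun hy hy' => ?_⟩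
    obtain ⟨k, z, hz, hzy⟩ := Set.mem_iUnion.mp hy
    rw [← hzy] at hy'
    exact hz ((hmem k z).mp hy')
  refine ⟨⋃ k, q k '' U k, ⟨⟨⟨?_⟩, isOpen_iUnion fun k => (hq k).isOpenMap _ (hU k).1.isOpen⟩, ?_⟩,
    fun U' hU' => ?_⟩
  · rw [hcompl]
    exact isOpen_iUnion fun k => (hq k).isOpenMap _ (hU k).1.compl.isOpen
  · ext ⟨y, hy⟩
    obtain ⟨j, x, rfl⟩ := hcov y
    exact (hmem j x).trans (Set.ext_iff.mp (hU j).2 ⟨x, hy⟩)
  · have hk : ∀ j, q j ⁻¹' U' = U j := fun j => hUu j _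
      ⟨hU'.1.preimage (hq j).continuous, by ext x; exact Set.ext_iff.mp hU'.2 (r j x)⟩
    ext y
    obtain ⟨j, x, rfl⟩ := hcov y
    rw [hmem, ← hk j]
    rfl

variable {X S : Scheme.{u}}

theorem lifts_iff {Y : Scheme.{u}} (g : Y ⟶ X) (i : S ⟶ X) [IsClosedImmersion i] :
    (∀ V : Set ↥(pullback g i), IsClopen V →
      ∃! U : Set ↥Y, IsClopen U ∧ (pullback.fst g i).base ⁻¹' U = V) ↔
      Lifts (Y := ↥Y) (g.base ⁻¹' Set.range i.base) := by
  rw [← Scheme.Pullback.range_fst g i]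
  exact lifts_range_iff (pullback.fst g i).isClosedEmbedding.isEmbedding

variable {ι : Type u} (X X₀ : ι → Scheme.{u}) (i : ∀ j, X₀ j ⟶ X j)

theorem sigmaι_surjective (y : ↥(∐ X)) : ∃ j x, (Sigma.ι X j).base x = y := by
  obtain ⟨j, x, h⟩ := (sigmaOpenCover X).exists_eq y
  exact ⟨j, x, h⟩

theorem preimage_range_sigmaMap (j : ι) :
    (Sigma.ι X j).base ⁻¹' Set.range (Limits.Sigma.map i).base = Set.range (i j).base := by
  ext x
  constructor
  · rintro ⟨z, hz⟩
    obtain ⟨k, w, rfl⟩ := sigmaι_surjective X₀ z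
    have h := congrArg (fun φ : X₀ k ⟶ ∐ X => φ.base w) (Sigma.ι_map i k)
    simp only [Scheme.Hom.comp_base, TopCat.comp_app] at h
    rw [h] at hz
    obtain ⟨rfl, h'⟩ := Sigma.mk.inj_iff.mp ((sigmaι_eq_iff X k j _ _).mp hz)
    exact ⟨w, eq_of_heq h'⟩
  · rintro ⟨w, rfl⟩
    refine ⟨(Sigma.ι X₀ j).base w, ?_⟩
    have h := congrArg (fun φ : X₀ j ⟶ ∐ X => φ.base w) (Sigma.ι_map i j)
    simp only [Scheme.Hom.comp_base, TopCat.comp_app] at h
    exact h

theorem isClosedImmersion_sigmaι (j : ι) : IsClosedImmersion (Sigma.ι X j) := by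
  refine IsClosedImmersion.of_isPreimmersion _ ⟨?_⟩
  have : (Set.range (Sigma.ι X j).base)ᶜ = ⋃ k : {k // k ≠ j}, Set.range (Sigma.ι X k.1).base := by
    ext y
    obtain ⟨k, x, rfl⟩ := sigmaι_surjective X y
    refine ⟨fun hy => Set.mem_iUnion.mpr ⟨⟨k, fun h => hy (by subst h; exact ⟨x, rfl⟩)⟩, x, rfl⟩,
      fun hy ⟨z, hz⟩ => ?_⟩
    obtain ⟨⟨l, hl⟩, w, hw⟩ := Set.mem_iUnion.mp hy
    exact hl (Sigma.mk.inj_iff.mp ((sigmaι_eq_iff X l j _ _).mp (hw.trans hz.symm))).1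
  rw [this]
  exact isOpen_iUnion fun k => (Sigma.ι X k.1).isOpenEmbedding.isOpen_range

theorem isClosedImmersion_sigmaMap [∀ j, IsClosedImmersion (i j)] :
    IsClosedImmersion (Limits.Sigma.map i) := by
  rw [IsZariskiLocalAtTarget.iff_of_openCover (P := @IsClosedImmersion) (sigmaOpenCover X)]
  intro j
  change IsClosedImmersion (pullback.snd (Limits.Sigma.map i) (Sigma.ι X j))
  have hr : Set.range (Sigma.ι X₀ j).base =
      Set.range (pullback.fst (Limits.Sigma.map i) (Sigma.ι X j)).base := by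
    rw [Scheme.Pullback.range_fst]
    ext z
    obtain ⟨k, w, rfl⟩ := sigmaι_surjective X₀ z
    have h := congrArg (fun φ : X₀ k ⟶ ∐ X => φ.base w) (Sigma.ι_map i k)
    simp only [Scheme.Hom.comp_base, TopCat.comp_app] at h
    constructor
    · rintro ⟨v, hv⟩
      obtain ⟨rfl, -⟩ := Sigma.mk.inj_iff.mp ((sigmaι_eq_iff X₀ j k _ _).mp hv)
      exact ⟨(i j).base w, h.symm⟩
    · rintro ⟨x, hx⟩
      rw [h] at hx
      obtain ⟨rfl, -⟩ := Sigma.mk.inj_iff.mp ((sigmaι_eq_iff X j k _ _).mp hx)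
      exact ⟨w, rfl⟩
  let e := IsOpenImmersion.isoOfRangeEq (Sigma.ι X₀ j)
    (pullback.fst (Limits.Sigma.map i) (Sigma.ι X j)) hr
  have he : e.hom ≫ pullback.snd (Limits.Sigma.map i) (Sigma.ι X j) = i j := by
    rw [← cancel_mono (Sigma.ι X j), Category.assoc, ← pullback.condition, ← Category.assoc,
      IsOpenImmersion.isoOfRangeEq_hom_fac]
    exact Sigma.ι_map i j
  rw [show pullback.snd (Limits.Sigma.map i) (Sigma.ι X j) = e.inv ≫ i j by
    rw [← he, ← Category.assoc, e.inv_hom_id, Category.id_comp]]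
  infer_instance

/-- The criterion. -/
theorem clopens_lift_sigma_iff [∀ j, IsClosedImmersion (i j)] [IsClosedImmersion (Limits.Sigma.map i)] :
    (∀ (Y : Scheme.{u}) (g : Y ⟶ ∐ X), IsFinite g →
      ∀ V : Set ↥(pullback g (Limits.Sigma.map i)), IsClopen V →
        ∃! U : Set ↥Y, IsClopen U ∧ (pullback.fst g (Limits.Sigma.map i)).base ⁻¹' U = V) ↔
    ∀ j : ι, ∀ (Y : Scheme.{u}) (g : Y ⟶ X j), IsFinite g →
      ∀ V : Set ↥(pullback g (i j)), IsClopen V →
        ∃! U : Set ↥Y, IsClopen U ∧ (pullback.fst g (i j)).base ⁻¹' U = V := by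
  constructor
  · intro h j Y g _
    haveI := isClosedImmersion_sigmaι X j
    rw [lifts_iff g (i j), ← preimage_range_sigmaMap X X₀ i j]
    exact (lifts_iff (g ≫ Sigma.ι X j) (Limits.Sigma.map i)).mp (h Y _ inferInstance)
  · intro h Y g hg
    rw [lifts_iff g (Limits.Sigma.map i)]
    refine Lifts.of_family (Yj := fun j => ↥(pullback g (Sigma.ι X j)))
      (fun j => (pullback.fst g (Sigma.ι X j)).base)
      (fun j => (pullback.fst g (Sigma.ι X j)).isOpenEmbedding) (fun j k hjk => ?_) (fun y => ?_)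
      (fun j => ?_)
    · rw [Scheme.Pullback.range_fst, Scheme.Pullback.range_fst]
      refine Disjoint.preimage _ (Set.disjoint_left.mpr ?_)
      rintro z ⟨a, ha⟩ ⟨b, hb⟩
      exact hjk (Sigma.mk.inj_iff.mp ((sigmaι_eq_iff X j k _ _).mp (ha.trans hb.symm))).1
    · obtain ⟨j, x, hx⟩ := sigmaι_surjective X (g.base y)
      exact ⟨j, by rw [Scheme.Pullback.range_fst]; exact ⟨x, hx⟩⟩
    · have h' := (lifts_iff _ (i j)).mp (h j _ (pullback.snd g (Sigma.ι X j)) inferInstance)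
      rw [← preimage_range_sigmaMap X X₀ i j, ← Set.preimage_comp] at h'
      rw [← Set.preimage_comp]
      convert h' using 3
      funext z
      exact congrArg (fun φ : pullback g (Sigma.ι X j) ⟶ ∐ X => φ.base z) pullback.condition

end Groth.L05.ClopenSigma
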