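import Groth.Agent.S1967
import Mathlib.RingTheory.Unramified.Field
import Mathlib.RingTheory.Etale.Basic
import Mathlib.RingTheory.SimpleModule.Basic
import Mathlib.RingTheory.Artinian.Module
import Mathlib.RingTheory.Localization.Away.Lemmas
import Mathlib.RingTheory.Localization.FractionRing
import Mathlib.RingTheory.IntegralClosure.IntegrallyClosed

/-!
# Unramified extensions and compositum
-/

set_option autoImplicit false
set_option linter.style.haveILetI false
set_option backward.isDefEq.respectTransparency.types false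
set_option backward.isDefEq.respectTransparency false

universe u

open scoped TensorProduct

namespace Groth.L05.Compositum

theorem mem_span_idem_iff {R : Type u} [CommRing R] {e : R} (he : IsIdempotentElem e) (x : R) :
    x ∈ Ideal.span {e} ↔ x * e = x := by
  rw [Ideal.mem_span_singleton]
  exact ⟨fun ⟨v, hv⟩ => by rw [hv, mul_comm e v, mul_assoc, he.eq],
    fun h => ⟨x, by rw [mul_comm]; exact h.symm⟩⟩

theorem idem_mul_pow {R : Type u} [CommRing R] {e : R} (he : IsIdempotentElem e) (z : R) (n : ℕ) :
    ((1 - e) * z) ^ (n + 1) = (1 - e) * z ^ (n + 1) := by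
  rw [mul_pow, he.one_sub.pow_succ_eq]

theorem idem_kill {R : Type u} [CommRing R] {e : R} (he : IsIdempotentElem e) (z w : R)
    (h : w * e = w) : (1 - e) * (z * w) = 0 := by
  rw [← h, sub_mul, one_mul, show e * (z * (w * e)) = z * (w * (e * e)) by ring, he.eq, sub_self]

theorem aeval_X_mul_idem {R : Type u} [CommRing R] {S : Type u} [CommRing S] [Algebra R S] {e : S}
    (he : IsIdempotentElem e) (z : S) (q : Polynomial R) :
    Polynomial.aeval ((1 - e) * z) (Polynomial.X * q) = (1 - e) * (z * Polynomial.aeval z q) := by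
  induction q using Polynomial.induction_on' with
  | add q r hq hr => rw [mul_add, map_add, hq, hr, map_add, mul_add, mul_add]
  | monomial n c =>
    rw [map_mul, Polynomial.aeval_X, Polynomial.aeval_monomial, Polynomial.aeval_monomial]
    calc (1 - e) * z * (algebraMap R S c * ((1 - e) * z) ^ n)
        = algebraMap R S c * ((1 - e) * z) ^ (n + 1) := by ring
      _ = algebraMap R S c * ((1 - e) * z ^ (n + 1)) := by rw [idem_mul_pow he]
      _ = (1 - e) * (z * (algebraMap R S c * z ^ n)) := by ring

theorem map_idem_mul {S T : Type u} [CommRing S] [CommRing T] (f : S →+* T) (e z : S) (h : f e = 0) :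
    f ((1 - e) * z) = f z := by
  rw [map_mul, map_sub, map_one, h, sub_zero, one_mul]

theorem compositum_etale (A A' L L₁ : Type u) [CommRing A] [IsDomain A]
    [CommRing A'] [IsDomain A'] [IsIntegrallyClosed A'] [Algebra A A']
    [Field L] [Algebra A L] [Algebra.IsAlgebraic A L] (hinj : Function.Injective (algebraMap A L))
    [Algebra.Etale A ↥(integralClosure A L)]
    [Field L₁] [Algebra A' L₁] [Algebra L L₁] [Algebra A L₁] [IsScalarTower A A' L₁] [IsScalarTower A L L₁]
    (hinj' : Function.Injective (algebraMap A' L₁))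
    (hgen : Subfield.closure (Set.range (algebraMap A' L₁) ∪ Set.range (algebraMap L L₁)) = ⊤) :
    Algebra.Etale A' ↥(integralClosure A' L₁) ∧
      integralClosure A' L₁ = Algebra.adjoin A' ((algebraMap L L₁) '' {x : L | IsIntegral A x}) := by
  classical
  let C := integralClosure A L
  let B := A' ⊗[A] C
  let K' := FractionRing A'
  haveI : Algebra.Etale A' B := inferInstance
  haveI : Algebra.WeaklyEtale A' B := inferInstance
  haveI hic : IsIntegrallyClosedIn B (B ⊗[A'] K') := Groth.Agent.S1967.result A' K' B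
  let ψ : C →ₐ[A] L₁ := (IsScalarTower.toAlgHom A L L₁).comp C.val
  let φB : B →ₐ[A'] L₁ := Algebra.TensorProduct.lift (Algebra.ofId A' L₁) ψ (fun _ _ => Commute.all _ _)
  have hφBt : ∀ (a : A') (c : C), φB (a ⊗ₜ[A] c) = algebraMap A' L₁ a * algebraMap L L₁ c.1 := fun _ _ => rfl
  let φK : K' →ₐ[A'] L₁ := IsFractionRing.liftAlgHom (g := Algebra.ofId A' L₁) hinj'
  let φ : B ⊗[A'] K' →ₐ[A'] L₁ := Algebra.TensorProduct.lift φB φK (fun _ _ => Commute.all _ _)
  haveI : Algebra.IsIntegral A C := inferInstance
  haveI : Algebra.IsIntegral A' B := inferInstance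
  -- the tensor product over the fraction field is a reduced Artinian ring
  haveI : Algebra.FormallyUnramified K' (K' ⊗[A'] B) := inferInstance
  haveI : Algebra.EssFiniteType K' (K' ⊗[A'] B) := inferInstance
  haveI hfin := Algebra.FormallyUnramified.finite_of_free (R := K') (S := K' ⊗[A'] B)
  haveI := Algebra.FormallyUnramified.isReduced_of_field K' (K' ⊗[A'] B)
  haveI := IsArtinianRing.of_finite K' (K' ⊗[A'] B)
  let cm : K' ⊗[A'] B ≃ₐ[A'] B ⊗[A'] K' := Algebra.TensorProduct.comm A' K' B
  let Φ : K' ⊗[A'] B →ₐ[A'] L₁ := φ.comp cm.toAlgHom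
  -- surjectivity
  have hF : IsField Φ.range := by
    haveI : IsDomain Φ.range := inferInstance
    haveI : IsArtinianRing Φ.range :=
      Φ.rangeRestrict_surjective.isArtinianRing (f := Φ.rangeRestrict.toRingHom)
    exact IsArtinianRing.isField_of_isDomain Φ.range
  have hrange : ∀ z : L₁, z ∈ Φ.range := by
    letI := hF.toField
    let F : Subfield L₁ :=
      { Φ.range.toSubring with
        inv_mem' := fun x hx => by
          rcases eq_or_ne x 0 with rfl | hx0
          · rw [inv_zero]
            exact Φ.range.zero_mem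
          · obtain ⟨⟨y, hy⟩, hxy⟩ := hF.mul_inv_cancel (a := (⟨x, hx⟩ : Φ.range))
              (fun h => hx0 (congrArg Subtype.val h))
            have hxy' : x * y = 1 := congrArg Subtype.val hxy
            rw [inv_eq_of_mul_eq_one_right hxy']
            exact hy }
    have hA' : ∀ a : A', algebraMap A' L₁ a ∈ F := fun a => Φ.range.algebraMap_mem a
    have hC : ∀ c : C, algebraMap L L₁ c.1 ∈ F := fun c =>
      ⟨cm.symm (((1 : A') ⊗ₜ[A] c : B) ⊗ₜ[A'] (1 : K')), by simp [Φ, φ, hφBt]⟩
    have hL : ∀ x : L, algebraMap L L₁ x ∈ F := by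
      intro x
      obtain ⟨d, hd0, hd⟩ := (Algebra.IsAlgebraic.isAlgebraic (R := A) x).exists_integral_multiple
      have h1 : algebraMap L L₁ (d • x) ∈ F := hC ⟨d • x, hd⟩
      rw [Algebra.smul_def, map_mul, ← IsScalarTower.algebraMap_apply,
        IsScalarTower.algebraMap_apply A A' L₁] at h1
      have hne : algebraMap A' L₁ (algebraMap A A' d) ≠ 0 := by
        rw [← IsScalarTower.algebraMap_apply, IsScalarTower.algebraMap_apply A L L₁]
        exact fun h => hd0 (hinj (by
          rw [map_zero]
          exact (algebraMap L L₁).injective (h.trans (map_zero _).symm)))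
      have h2 := F.mul_mem (F.inv_mem (hA' (algebraMap A A' d))) h1
      rwa [inv_mul_cancel_left₀ hne] at h2
    intro z
    have : (⊤ : Subfield L₁) ≤ F := hgen ▸ Subfield.closure_le.mpr (by
      rintro _ (⟨a, rfl⟩ | ⟨x, rfl⟩)
      · exact hA' a
      · exact hL x)
    exact this (x := z) trivial
  have hφs : Function.Surjective φ := fun z => by
    obtain ⟨w, hw⟩ := hrange z
    exact ⟨cm w, hw⟩
  -- the kernel idempotent
  haveI := IsArtinianRing.isSemisimpleRing_of_isReduced (R := K' ⊗[A'] B)
  let I₀ : Ideal (K' ⊗[A'] B) := RingHom.ker Φ.toRingHom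
  obtain ⟨e₀, he₀, hker₀⟩ := IsSemisimpleRing.ideal_eq_span_idempotent (R := K' ⊗[A'] B) I₀
  let e₁ := cm e₀
  have he₁ : IsIdempotentElem e₁ := he₀.map cm
  have hker : ∀ z : B ⊗[A'] K', φ z = 0 ↔ z * e₁ = z := by
    intro z
    obtain ⟨w, rfl⟩ := cm.surjective z
    change Φ w = 0 ↔ _
    rw [show (Φ w = 0) = (w ∈ I₀) from rfl, hker₀, ← map_mul, cm.injective.eq_iff]
    exact mem_span_idem_iff he₀ w
  have hint : ∀ z : B ⊗[A'] K', IsIntegral B z → ∃ b : B, algebraMap B (B ⊗[A'] K') b = z :=
    fun z hz => IsIntegrallyClosedIn.algebraMap_eq_of_integral hz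
  obtain ⟨e, he⟩ := hint e₁ ⟨Polynomial.X ^ 2 - Polynomial.X,
    Polynomial.monic_X_pow_sub (by rw [Polynomial.degree_X]; norm_num), by simp [sq, he₁.eq]⟩
  have hBinj : Function.Injective (algebraMap B (B ⊗[A'] K')) :=
    (isIntegrallyClosedIn_iff.mp hic).1
  have heidem : IsIdempotentElem e := hBinj (by rw [map_mul, he, he₁.eq])
  have hφB : ∀ b : B, φ (algebraMap B (B ⊗[A'] K') b) = φB b := fun b => by
    rw [Algebra.TensorProduct.algebraMap_apply]
    simp [φ]
  have hkerB : RingHom.ker φB = Ideal.span {e} := by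
    ext b
    rw [RingHom.mem_ker, ← hφB, hker, ← he, ← map_mul, hBinj.eq_iff]
    exact (mem_span_idem_iff heidem b).symm
  -- the range is the integral closure
  have hrangeB : φB.range = integralClosure A' L₁ := by
    refine le_antisymm ?_ fun y hy => ?_
    · rintro _ ⟨b, rfl⟩
      exact (Algebra.IsIntegral.isIntegral b).map φB
    · obtain ⟨p, hp, hpy⟩ := hy
      obtain ⟨z, rfl⟩ := hφs y
      have hw : IsIntegral A' ((1 - e₁) * z) := by
        refine ⟨Polynomial.X * p, Polynomial.monic_X.mul hp, ?_⟩
        have h0 : φ (Polynomial.aeval z p) = 0 := by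
          rw [← Polynomial.aeval_algHom_apply]
          exact hpy
        have h1 := (hker _).mp h0
        rw [← Polynomial.aeval_def, aeval_X_mul_idem he₁ z p]
        exact idem_kill he₁ _ _ h1
      obtain ⟨b, hb⟩ := hint _ hw.tower_top
      refine ⟨b, ?_⟩
      show φB b = φ z
      rw [← hφB, hb]
      exact map_idem_mul φ.toRingHom e₁ z ((hker e₁).mpr he₁)
  refine ⟨?_, ?_⟩
  · rw [← hrangeB]
    letI : Algebra B φB.range := φB.rangeRestrict.toRingHom.toAlgebra
    haveI : IsScalarTower A' B φB.range := IsScalarTower.of_algebraMap_eq fun a => (φB.rangeRestrict.commutes a).symm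
    haveI : IsLocalization.Away (1 - e) φB.range := by
      refine IsLocalization.away_of_isIdempotentElem heidem.one_sub ?_ φB.rangeRestrict_surjective
      rw [sub_sub_cancel, ← hkerB]
      exact φB.ker_rangeRestrict
    haveI : Algebra.Etale B φB.range := Algebra.Etale.of_isLocalizationAway (1 - e)
    exact Algebra.Etale.comp A' B φB.range
  · rw [← hrangeB]
    refine le_antisymm ?_ (Algebra.adjoin_le ?_)
    · rintro _ ⟨b, rfl⟩
      induction b using TensorProduct.induction_on with
      | zero => rw [map_zero]; exact Subalgebra.zero_mem _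
      | tmul a c =>
        show φB (a ⊗ₜ c) ∈ _
        rw [hφBt]
        exact Subalgebra.mul_mem _ (Subalgebra.algebraMap_mem _ a)
          (Algebra.subset_adjoin ⟨c.1, c.2, rfl⟩)
      | add x y hx hy => rw [map_add]; exact Subalgebra.add_mem _ hx hy
    · rintro _ ⟨x, hx, rfl⟩
      exact ⟨(1 : A') ⊗ₜ[A] (⟨x, hx⟩ : C), by simp [hφBt]⟩

end Groth.L05.Compositum
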