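import Mathlib.RingTheory.Noetherian.Defs
import Mathlib.RingTheory.FiniteType
import Mathlib.RingTheory.Ideal.Operations
import Mathlib.RingTheory.Finiteness.Ideal

/-!
# Dense polynomial subalgebras of adic rings
-/

set_option autoImplicit false

universe u

namespace Groth.L05

variable {A B : Type u} [CommRing A] [CommRing B] [Algebra A B]

/-- If a subalgebra surjects modulo `R` and contains generators of `R`, it surjects modulo all powers. -/
theorem exists_sub_mem_pow_of_generators (S : Subalgebra A B) (R : Ideal B) (G : Set B)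
    (hG : Ideal.span G = R) (hGS : G ⊆ S) (hS : ∀ y : B, ∃ s ∈ S, y - s ∈ R) (n : ℕ) (y : B) :
    ∃ s ∈ S, y - s ∈ R ^ n := by
  induction n generalizing y with
  | zero => exact ⟨0, zero_mem _, by simp [Ideal.one_eq_top]⟩
  | succ n ih =>
    have step : ∀ z ∈ R, ∀ t : B, ∃ s ∈ S, t * z - s ∈ R ^ (n + 1) := by
      intro z hz
      rw [← hG] at hz
      refine Submodule.span_induction (p := fun z _ => ∀ t : B, ∃ s ∈ S, t * z - s ∈ R ^ (n + 1))
        ?_ (fun t => ⟨0, zero_mem _, by simp⟩) ?_ ?_ hz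
      · intro g hg t
        obtain ⟨s, hs, hts⟩ := ih t
        refine ⟨s * g, mul_mem hs (hGS hg), ?_⟩
        rw [← sub_mul, pow_succ]
        exact Ideal.mul_mem_mul hts (hG ▸ Ideal.subset_span hg)
      · intro a b _ _ ha hb t
        obtain ⟨s, hs, h1⟩ := ha t
        obtain ⟨s', hs', h2⟩ := hb t
        exact ⟨s + s', add_mem hs hs', by rw [mul_add, add_sub_add_comm]; exact add_mem h1 h2⟩
      · intro c a _ ha t
        rw [smul_eq_mul, ← mul_assoc] at *
        exact ha _
    obtain ⟨s₀, hs₀, hy⟩ := hS y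
    obtain ⟨s, hs, h⟩ := step _ hy 1
    exact ⟨s₀ + s, add_mem hs₀ hs, by rwa [one_mul, sub_sub] at h⟩

/-- Dense image of a polynomial algebra. -/
theorem exists_mvPolynomial_dense [IsNoetherianRing B] (J : Ideal B)
    (hft : Algebra.FiniteType A (B ⧸ J.radical)) : ∃ s : ℕ, ∃ b : Fin s → B, ∀ (y : B) (n : ℕ),
    ∃ p : MvPolynomial (Fin s) A, y - MvPolynomial.aeval b p ∈ J ^ n := by
  classical
  obtain ⟨G, hG⟩ := IsNoetherian.noetherian J.radical
  obtain ⟨T, hT⟩ := hft.out
  let lift : B ⧸ J.radical → B := Function.surjInv Ideal.Quotient.mk_surjective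
  have hlift : ∀ q, Ideal.Quotient.mk J.radical (lift q) = q :=
    Function.surjInv_eq Ideal.Quotient.mk_surjective
  set U : Finset B := G ∪ T.image lift with hU
  refine ⟨U.card, fun i => (U.equivFin.symm i).1, fun y n => ?_⟩
  set S := Algebra.adjoin A (U : Set B)
  have hS : ∀ y : B, ∃ s ∈ S, y - s ∈ J.radical := by
    intro y
    have hy : Ideal.Quotient.mk J.radical y ∈ S.map (Ideal.Quotient.mkₐ A J.radical) := by
      have : Algebra.adjoin A (T : Set (B ⧸ J.radical)) ≤ S.map (Ideal.Quotient.mkₐ A J.radical) := by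
        rw [Algebra.adjoin_le_iff]
        intro t ht
        exact ⟨lift t, Algebra.subset_adjoin (by simp [hU]; exact Or.inr ⟨t, ht, rfl⟩), hlift t⟩
      exact this (hT ▸ Algebra.mem_top)
    obtain ⟨s, hs, hsy⟩ := hy
    exact ⟨s, hs, (Ideal.Quotient.mk_eq_mk_iff_sub_mem _ _).mp hsy.symm⟩
  obtain ⟨N, hN⟩ := Ideal.exists_radical_pow_le_of_fg J (IsNoetherian.noetherian J.radical)
  obtain ⟨s, hs, hys⟩ := exists_sub_mem_pow_of_generators S J.radical (G : Set B) hG
    (fun g hg => Algebra.subset_adjoin (by simp [hU]; exact Or.inl hg)) hS (N * n) y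
  rw [pow_mul] at hys
  have hs' : s ∈ (MvPolynomial.aeval fun i => (U.equivFin.symm i).1 :
      MvPolynomial (Fin U.card) A →ₐ[A] B).range := by
    rw [← Algebra.adjoin_range_eq_range_aeval]
    convert hs using 2
    show Set.range (Subtype.val ∘ U.equivFin.symm) = (U : Set B)
    rw [Set.range_comp, U.equivFin.symm.surjective.range_eq, Set.image_univ, Subtype.range_coe]
  obtain ⟨p, rfl⟩ := hs'
  exact ⟨p, Ideal.pow_right_mono hN n hys⟩

end Groth.L05
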