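import Groth.Agent.L05.Henselization.Pair
import Mathlib.RingTheory.TensorProduct.Quotient
import Mathlib.RingTheory.LocalRing.ResidueField.Basic
import Mathlib.RingTheory.Localization.AtPrime.Basic
import Mathlib.RingTheory.Flat.Basic
import Mathlib.RingTheory.Flat.Localization

/-!
# Exactness can be checked on henselizations at the points of the zero locus
-/

set_option autoImplicit false
set_option linter.style.haveILetI false

universe u

open scoped TensorProduct

namespace Groth.L05

variable {A : Type u} [CommRing A] {M' M M'' : Type u} [AddCommGroup M'] [Module A M'] [AddCommGroup M]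
  [Module A M] [AddCommGroup M''] [Module A M''] {f : M' →ₗ[A] M} {g : M →ₗ[A] M''}

/-- Exactness descends along a family of flat algebras covering all maximal ideals. -/
theorem exact_of_flat_family (hfg : g.comp f = 0)
    (h : ∀ p : Ideal A, p.IsMaximal → ∃ (H : Type u) (_ : CommRing H) (_ : Algebra A H),
      Module.Flat A H ∧ (1 : H) ∉ p.map (algebraMap A H) ∧ Function.Exact (f.baseChange H) (g.baseChange H)) :
    Function.Exact f g := by
  intro x
  refine ⟨fun hx => ?_, fun ⟨y, hy⟩ => by rw [← hy, ← LinearMap.comp_apply, hfg, LinearMap.zero_apply]⟩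
  let q : A →ₗ[A] M ⧸ LinearMap.range f :=
    (LinearMap.range f).mkQ.comp (LinearMap.toSpanSingleton A M x)
  by_contra hne
  have hproper : LinearMap.ker q ≠ ⊤ := fun htop => hne <| by
    have h1 : q 1 = 0 := LinearMap.mem_ker.mp (htop.ge (Submodule.mem_top (x := (1 : A))))
    rw [LinearMap.comp_apply, LinearMap.toSpanSingleton_apply, one_smul, Submodule.mkQ_apply,
      Submodule.Quotient.mk_eq_zero] at h1
    exact h1
  obtain ⟨p, hp, hle⟩ := Ideal.exists_le_maximal _ hproper
  obtain ⟨H, _, _, hflat, h1, hex⟩ := h p hp
  obtain ⟨z, hz⟩ := (hex ((1 : H) ⊗ₜ[A] x)).mp (by rw [LinearMap.baseChange_tmul, hx, TensorProduct.tmul_zero])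
  have h0 : LinearMap.lTensor H (LinearMap.range f).mkQ ((1 : H) ⊗ₜ[A] x) = 0 := by
    rw [← hz, LinearMap.baseChange_eq_ltensor, ← LinearMap.comp_apply, ← LinearMap.lTensor_comp,
      LinearMap.range_mkQ_comp, LinearMap.lTensor_zero, LinearMap.zero_apply]
  let q' : A ⧸ LinearMap.ker q →ₗ[A] M ⧸ LinearMap.range f := (LinearMap.ker q).liftQ q le_rfl
  have hq' : Function.Injective q' := LinearMap.ker_eq_bot.mp (Submodule.ker_liftQ_eq_bot _ _ _ le_rfl)
  have h2 : (1 : H) ⊗ₜ[A] (Submodule.Quotient.mk (p := LinearMap.ker q) (1 : A)) = 0 := by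
    apply Module.Flat.lTensor_preserves_injective_linearMap (M := H) q' hq'
    rw [map_zero, LinearMap.lTensor_tmul, ← h0, LinearMap.lTensor_tmul]
    congr 1
    show q 1 = _
    simp [q]
  refine h1 (Ideal.map_mono hle ?_)
  have h3 := congrArg (TensorProduct.tensorQuotEquivQuotSMul H (LinearMap.ker q)) h2
  rw [map_zero, show (Submodule.Quotient.mk (p := LinearMap.ker q) (1 : A)) =
    Ideal.Quotient.mk (LinearMap.ker q) 1 from rfl, TensorProduct.tensorQuotEquivQuotSMul_tmul_mk,
    one_smul, Submodule.Quotient.mk_eq_zero, Ideal.smul_top_eq_map, Submodule.restrictScalars_mem] at h3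
  exact h3

/-- Exactness over a henselian pair is checked on the henselizations at the points of the zero locus. -/
theorem exact_iff_forall_pairHenselization (I : Ideal A) [HenselianRing A I] (hfg : g.comp f = 0) :
    Function.Exact f g ↔
    ∀ (p : Ideal A) [p.IsPrime], I ≤ p →
      ∀ (H : Type u) [CommRing H] [Algebra (Localization.AtPrime p) H] [Algebra A H]
        [IsScalarTower A (Localization.AtPrime p) H],
        Hens2.IsPairHenselization (Localization.AtPrime p)
          (I.map (algebraMap A (Localization.AtPrime p))) H →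
        Function.Exact (f.baseChange H) (g.baseChange H) := by
  constructor
  · intro h p _ _ H _ _ _ _ hH
    haveI := Henselization.flat_of_isPairHenselization _ _ hH
    haveI : Module.Flat A H := Module.Flat.trans A (Localization.AtPrime p) H
    simpa only [LinearMap.baseChange_eq_ltensor] using Module.Flat.lTensor_exact H h
  · intro h
    refine exact_of_flat_family hfg fun p hp => ?_
    have hIp : I ≤ p := le_trans HenselianRing.jac (sInf_le ⟨bot_le, hp⟩)
    let Ap := Localization.AtPrime p
    let H := Henselization.PairHens Ap (I.map (algebraMap A Ap))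
    letI : Algebra A H := ((algebraMap Ap H).comp (algebraMap A Ap)).toAlgebra
    haveI : IsScalarTower A Ap H := IsScalarTower.of_algebraMap_eq fun _ => rfl
    have hH : Hens2.IsPairHenselization Ap (I.map (algebraMap A Ap)) H :=
      Henselization.isPairHenselization _ _
    haveI := Henselization.flat_of_isPairHenselization _ _ hH
    refine ⟨H, inferInstance, inferInstance, Module.Flat.trans A Ap H, fun h1 => ?_, h p hIp H hH⟩
    have hle : (I.map (algebraMap A Ap)).map (IsLocalRing.residue Ap) = ⊥ := by
      rw [eq_bot_iff, Ideal.map_le_iff_le_comap, ← RingHom.ker, IsLocalRing.ker_residue,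
        ← Localization.AtPrime.map_eq_maximalIdeal]
      exact Ideal.map_mono hIp
    obtain ⟨φ, hφ, -⟩ := hH.2 (IsLocalRing.ResidueField Ap) ⊥ (IsLocalRing.residue Ap)
      (Groth.L05.henselianRing_of_nil _ fun x hx => by rw [Ideal.mem_bot.mp hx]; exact IsNilpotent.zero)
      hle.le
    have hker : p.map (algebraMap A H) ≤ RingHom.ker φ := by
      rw [Ideal.map_le_iff_le_comap]
      intro a ha
      show φ (algebraMap Ap H (algebraMap A Ap a)) = 0
      rw [← RingHom.comp_apply, hφ, ← RingHom.mem_ker, IsLocalRing.ker_residue,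
        ← Localization.AtPrime.map_eq_maximalIdeal]
      exact Ideal.mem_map_of_mem _ ha
    exact one_ne_zero ((map_one φ).symm.trans (hker h1))

end Groth.L05
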