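import Groth.Agent.L16.BirationalNormal
import Mathlib.AlgebraicGeometry.AlgClosed.Basic
import Mathlib.AlgebraicGeometry.Morphisms.Etale
import Mathlib.AlgebraicGeometry.Morphisms.FlatMono
import Mathlib.RingTheory.Etale.Field
import Mathlib.RingTheory.Etale.Locus
import Mathlib.FieldTheory.Perfect
import Mathlib.RingTheory.Algebraic.Integral

/-!
# Morphisms of varieties in characteristic zero which are injective on rational points
-/

set_option autoImplicit false
set_option linter.style.haveILetI false
set_option backward.isDefEq.respectTransparency false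

universe u

open CategoryTheory CategoryTheory.Limits AlgebraicGeometry
open scoped nonZeroDivisors

namespace Groth.L05.InjPoints

/-- A dominant quasi-finite algebra of characteristic zero domains is étale somewhere. -/
theorem exists_etale_away (A B : Type u) [CommRing A] [IsDomain A] [IsNoetherianRing A] [CharZero A]
    [CommRing B] [IsDomain B] [Algebra A B] [Algebra.FiniteType A B] [Algebra.QuasiFinite A B]
    (hinj : Function.Injective (algebraMap A B)) :
    ∃ g : B, g ≠ 0 ∧ Algebra.Etale A (Localization.Away g) := by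
  haveI : FaithfulSMul A B := (faithfulSMul_iff_algebraMap_injective A B).mpr hinj
  let K := FractionRing A
  let L := FractionRing B
  haveI : FaithfulSMul A L := (faithfulSMul_iff_algebraMap_injective A L).mpr
    (by rw [IsScalarTower.algebraMap_eq A B L]; exact (IsFractionRing.injective B L).comp hinj)
  letI : Algebra K L := FractionRing.liftAlgebra A L
  haveI : IsScalarTower A K L := FractionRing.isScalarTower_liftAlgebra A L
  haveI : CharZero K := charZero_of_injective_algebraMap (IsFractionRing.injective A K)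
  haveI : Algebra.QuasiFinite A L := Algebra.QuasiFinite.of_isLocalization B⁰
  haveI : Algebra.QuasiFinite K L := Algebra.QuasiFinite.of_restrictScalars A K L
  haveI : Module.Finite K L := Module.Finite.of_quasiFinite
  haveI : Algebra.IsSeparable K L := Algebra.IsAlgebraic.isSeparable_of_perfectField
  haveI : Algebra.FormallyEtale A K := Algebra.FormallyEtale.of_isLocalization A⁰
  haveI : Algebra.FormallyEtale K L := Algebra.FormallyEtale.of_isSeparable K L
  haveI : Algebra.FormallyEtale A L := Algebra.FormallyEtale.comp A K L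
  haveI : Algebra.FinitePresentation A B := Algebra.FinitePresentation.of_finiteType.1 inferInstance
  haveI : IsLocalization (⊥ : Ideal B).primeCompl L := by
    rw [Ideal.primeCompl_bot]; infer_instance
  haveI : Algebra.IsEtaleAt A (⊥ : Ideal B) :=
    Algebra.FormallyEtale.of_equiv ((IsLocalization.algEquiv (⊥ : Ideal B).primeCompl L
      (Localization.AtPrime (⊥ : Ideal B))).restrictScalars A)
  obtain ⟨g, hg, het⟩ := Algebra.exists_etale_of_isEtaleAt (R := A) (⊥ : Ideal B)
  exact ⟨g, fun h => hg (by rw [h]; exact zero_mem _), het⟩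

variable {k : Type u} [Field k] [IsAlgClosed k] {X Y : Scheme.{u}}
  (sX : X ⟶ Spec (CommRingCat.of k)) (sY : Y ⟶ Spec (CommRingCat.of k))
  [LocallyOfFiniteType sX] [LocallyOfFiniteType sY] (f : X ⟶ Y) (hf : f ≫ sY = sX)
  (hinj : ∀ a b : Spec (CommRingCat.of k) ⟶ X, a ≫ sX = 𝟙 _ → b ≫ sX = 𝟙 _ → a ≫ f = b ≫ f → a = b)

include hf hinj

theorem eq_of_closed {x x' : X} (hx : IsClosed ({x} : Set X)) (hx' : IsClosed ({x'} : Set X))
    (h : f x = f x') : x = x' := by
  have key : pointOfClosedPoint sX x hx = pointOfClosedPoint sX x' hx' := by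
    refine hinj _ _ (pointOfClosedPoint_comp sX x hx) (pointOfClosedPoint_comp sX x' hx') ?_
    refine ext_of_apply_closedPoint_eq sY ?_ ?_ ?_
    · rw [Category.assoc, hf]; exact pointOfClosedPoint_comp sX x hx
    · rw [Category.assoc, hf]; exact pointOfClosedPoint_comp sX x' hx'
    · simp [h]
  have := congr(($key) (IsLocalRing.closedPoint k))
  simpa using this

theorem locallyQuasiFinite [LocallyOfFiniteType f] : LocallyQuasiFinite f := by
  haveI : JacobsonSpace X := LocallyOfFiniteType.jacobsonSpace sX
  haveI : JacobsonSpace Y := LocallyOfFiniteType.jacobsonSpace sY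
  have hclosed : ∀ x ∈ closedPoints X, f.QuasiFiniteAt x := by
    intro x hx
    have hy : IsClosed ({f x} : Set Y) := by
      have h1 : f x ∈ closedPoints Y := by
        have := (pointEquivClosedPoint sY ⟨pointOfClosedPoint sX x hx ≫ f,
          by rw [Category.assoc, hf]; exact pointOfClosedPoint_comp sX x hx⟩).2
        simpa using this
      exact h1
    have hsing : f ⁻¹' {f x} = {x} := by
      refine Set.Subset.antisymm ?_ (by simp)
      have hZ : IsClosed (f ⁻¹' {f x}) := hy.preimage f.continuous
      rw [← hZ.closure_eq, ← JacobsonSpace.closure_inter_closedPoints_eq_closure hZ.isLocallyClosed]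
      refine closure_minimal ?_ hx
      exact fun z hz => eq_of_closed sX sY f hf hinj hz.2 hx hz.1
    rw [Scheme.Hom.quasiFiniteAt_iff_isOpen_singleton_asFiber, ← (f.fiberHomeo (f x)).isOpen_image]
    haveI : Subsingleton ↥(f ⁻¹' {f x}) :=
      Set.subsingleton_coe _ |>.mpr (hsing ▸ Set.subsingleton_singleton)
    haveI : DiscreteTopology ↥(f ⁻¹' {f x}) := inferInstance
    exact isOpen_discrete _
  have hall : ∀ x, f.QuasiFiniteAt x := by
    by_contra hno
    push Not at hno
    obtain ⟨z, hz, hzc⟩ := nonempty_inter_closedPoints (Z := {x | f.QuasiFiniteAt x}ᶜ) hno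
      f.isOpen_quasiFiniteAt.isClosed_compl.isLocallyClosed
    exact hz (hclosed z hzc)
  refine locallyQuasiFinite_iff_isDiscrete_preimage_singleton.mpr fun y => ?_
  refine ⟨discreteTopology_iff_isOpen_singleton.mpr fun z => ?_⟩
  obtain ⟨z, rfl⟩ := z
  have := (f.fiberHomeo (f z)).isOpen_image.mpr
    (Scheme.Hom.quasiFiniteAt_iff_isOpen_singleton_asFiber.mp (hall z))
  simpa [Scheme.Hom.asFiber] using this

theorem mono_of_etale [Etale f] : Mono f := by
  suffices IsIso (pullback.diagonal f) from (pullback.isIso_diagonal_iff f).1 this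
  haveI : Surjective (pullback.diagonal f) := by
    haveI : JacobsonSpace ↥(pullback f f) :=
      LocallyOfFiniteType.jacobsonSpace (pullback.fst f f ≫ sX)
    refine ⟨Set.range_eq_univ.mp (by_contra fun hne => ?_)⟩
    obtain ⟨z, hz, hzc⟩ := nonempty_inter_closedPoints (Z := (Set.range (pullback.diagonal f))ᶜ)
      (Set.nonempty_compl.mpr hne)
      (pullback.diagonal f).isOpenEmbedding.isOpen_range.isClosed_compl.isLocallyClosed
    refine hz ?_
    let p := pointOfClosedPoint (pullback.fst f f ≫ sX) z hzc
    have hp : p ≫ pullback.fst f f ≫ sX = 𝟙 _ := pointOfClosedPoint_comp _ z hzc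
    have hab : p ≫ pullback.fst f f = p ≫ pullback.snd f f := by
      refine hinj _ _ (by rw [Category.assoc]; exact hp) ?_ ?_
      · rw [Category.assoc, ← hf, ← pullback.condition_assoc, hf]; exact hp
      · rw [Category.assoc, Category.assoc, pullback.condition]
    have hd : p = (p ≫ pullback.fst f f) ≫ pullback.diagonal f := by
      ext <;> simp [hab]
    refine ⟨(p ≫ pullback.fst f f) (IsLocalRing.closedPoint k), ?_⟩
    rw [← Scheme.Hom.comp_apply, ← hd]
    exact pointOfClosedPoint_apply _ z hzc _
  exact (isIso_iff_isOpenImmersion_and_surjective _).2 ⟨inferInstance, inferInstance⟩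

omit hf hinj in
include sY in
theorem exists_etale_open [CharZero k] [IsIntegral X] [IsIntegral Y] [LocallyOfFiniteType f]
    [LocallyQuasiFinite f] [IsDominant f] [QuasiCompact f] :
    ∃ W : X.Opens, genericPoint X ∈ W ∧ Etale (W.ι ≫ f) := by
  haveI : IsLocallyNoetherian Y := LocallyOfFiniteType.isLocallyNoetherian sY
  obtain ⟨U, hU, hηU, -⟩ := exists_isAffineOpen_mem_and_subset (x := f (genericPoint X)) (U := ⊤) trivial
  obtain ⟨V, hV, hηV, hVU'⟩ := exists_isAffineOpen_mem_and_subset (X := X) (x := genericPoint X)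
    (U := f ⁻¹ᵁ U) hηU
  have hVU : V ≤ f ⁻¹ᵁ U := hVU'
  haveI : Nonempty U := ⟨⟨_, hηU⟩⟩
  haveI : Nonempty V := ⟨⟨_, hηV⟩⟩
  haveI : IsNoetherianRing Γ(Y, U) := IsLocallyNoetherian.component_noetherian ⟨_, hU⟩
  haveI : CharZero Γ(Y, U) := by
    letI := ((Scheme.ΓSpecIso (CommRingCat.of k)).inv ≫ sY.appLE ⊤ U le_top).hom.toAlgebra
    exact charZero_of_injective_algebraMap (R := k) (RingHom.injective _)
  letI := (f.appLE U V hVU).hom.toAlgebra
  haveI : Algebra.FiniteType Γ(Y, U) Γ(X, V) := f.finiteType_appLE hU hV hVU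
  haveI : Algebra.QuasiFinite Γ(Y, U) Γ(X, V) := LocallyQuasiFinite.quasiFinite_appLE hU hV hVU
  have hinj' : Function.Injective (algebraMap Γ(Y, U) Γ(X, V)) := by
    haveI : IsSchemeTheoreticallyDominant f := .of_isDominant f
    show Function.Injective (f.appLE U V hVU)
    rw [Scheme.Hom.appLE]
    show Function.Injective ((X.presheaf.map (homOfLE hVU).op) ∘ (f.app U))
    haveI : Nonempty (f ⁻¹ᵁ U : X.Opens) := ⟨⟨_, hηU⟩⟩
    exact (map_injective_of_isIntegral X (homOfLE hVU)).comp (f.app_injective U)
  obtain ⟨g, hg, het⟩ := exists_etale_away Γ(Y, U) Γ(X, V) hinj'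
  refine ⟨X.basicOpen g, ?_, ?_⟩
  · refine (X.mem_basicOpen g _ hηV).2 ?_
    letI : Field (X.presheaf.stalk (genericPoint X)) := inferInstanceAs (Field X.functionField)
    exact IsUnit.mk0 _ ((map_ne_zero_iff _ (germ_injective_of_isIntegral X _ hηV)).2 hg)
  have hle : X.basicOpen g ≤ f ⁻¹ᵁ U := (X.basicOpen_le g).trans hVU
  letI : Algebra Γ(X, V) Γ(X, X.basicOpen g) :=
    (X.presheaf.map (homOfLE (X.basicOpen_le g)).op).hom.toAlgebra
  haveI : IsLocalization.Away g Γ(X, X.basicOpen g) := hV.isLocalization_basicOpen g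
  letI : Algebra Γ(Y, U) Γ(X, X.basicOpen g) := (f.appLE U (X.basicOpen g) hle).hom.toAlgebra
  haveI : IsScalarTower Γ(Y, U) Γ(X, V) Γ(X, X.basicOpen g) := IsScalarTower.of_algebraMap_eq' (by
    show (f.appLE U (X.basicOpen g) hle).hom =
      (X.presheaf.map (homOfLE (X.basicOpen_le g)).op).hom.comp (f.appLE U V hVU).hom
    rw [← CommRingCat.hom_comp, Scheme.Hom.appLE_map])
  have het' : (f.appLE U (X.basicOpen g) hle).hom.Etale := by
    haveI := het
    exact Algebra.Etale.of_equiv ((IsLocalization.algEquiv (Submonoid.powers g) (Localization.Away g)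
      Γ(X, X.basicOpen g)).restrictScalars Γ(Y, U))
  haveI : Etale (Spec.map (f.appLE U (X.basicOpen g) hle)) :=
    (HasRingHomProperty.Spec_iff (P := @Etale)).2 het'
  rw [← (hV.basicOpen g).isoSpec_hom_fromSpec, Category.assoc,
    ← IsAffineOpen.SpecMap_appLE_fromSpec f hU (hV.basicOpen g) hle]
  infer_instance

theorem isOpenImmersion [CharZero k] [IsIntegral X] [IsIntegral Y] [IsSeparated f]
    [LocallyOfFiniteType f] [QuasiCompact f] [IsDominant f]
    (hN : ∀ y : Y, IsIntegrallyClosed (Y.presheaf.stalk y)) : IsOpenImmersion f := by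
  haveI := locallyQuasiFinite sX sY f hf hinj
  obtain ⟨W, hW, het⟩ := exists_etale_open sY f
  haveI : Mono (W.ι ≫ f) := mono_of_etale (W.ι ≫ sX) sY (W.ι ≫ f) (by rw [Category.assoc, hf])
    fun a b ha hb hab => by
      rw [← cancel_mono W.ι]
      exact hinj _ _ (by rw [Category.assoc]; exact ha) (by rw [Category.assoc]; exact hb)
        (by simpa only [Category.assoc] using hab)
  haveI : IsOpenImmersion (W.ι ≫ f) := IsOpenImmersion.of_flat_of_mono _
  have e : f (genericPoint X) = genericPoint Y := by
    refine IsGenericPoint.eq ?_ (genericPoint_spec Y)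
    have := (genericPoint_spec X).image f.continuous
    rwa [Set.image_univ, f.denseRange.closure_eq] at this
  have h2 : IsIso ((W.ι ≫ f).stalkMap ⟨genericPoint X, hW⟩) := inferInstance
  rw [Scheme.Hom.stalkMap_comp] at h2
  have : IsIso (f.stalkMap (genericPoint X)) :=
    @IsIso.of_isIso_comp_right _ _ _ _ _ (f.stalkMap (W.ι ⟨genericPoint X, hW⟩)) _ inferInstance h2
  exact (Groth.L16.BirNormal.isOpenImmersion_of_birational_finite_fibres f hN e this
    f.finite_preimage_singleton).1

end Groth.L05.InjPoints
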