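import Groth.Agent.L19.Limit.Smooth
import Groth.Agent.L19.Limit.QuasiFinite
import Groth.Agent.S12442
import Mathlib.AlgebraicGeometry.Morphisms.Etale

/-!
# Descending source-local properties along cofiltered limits, without finiteness on the bases
-/

universe u

open CategoryTheory CategoryTheory.Limits AlgebraicGeometry MorphismProperty TopologicalSpace

namespace Groth.L05.LimitLocal

open Groth.L19.Limit

set_option backward.isDefEq.respectTransparency.types false
set_option backward.isDefEq.respectTransparency false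
set_option backward.defeqAttrib.useBackward true
set_option linter.style.haveILetI false

section Pb

variable {P : MorphismProperty Scheme.{u}} [P.IsStableUnderBaseChange]

theorem pb_of_mono {U V Y T : Scheme.{u}} (f : U ⟶ V) (ι : V ⟶ Y) [Mono ι] (m : T ⟶ V)
    (h : Pb P (f ≫ ι) (m ≫ ι)) : Pb P f m := by
  have sq : IsPullback m (𝟙 T) ι (m ≫ ι) :=
    ⟨⟨(Category.id_comp _).symm⟩, ⟨PullbackCone.IsLimit.mk _ (fun s => s.snd)
      (fun s => by rw [← cancel_mono ι, Category.assoc, s.condition])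
      (fun s => Category.comp_id _) (fun s t _ h2 => by simpa using h2)⟩⟩
  have h' := (pb_iff_of_isPullback
    ((IsPullback.of_hasPullback m f).flip.paste_vert sq)).mpr h
  simpa using h'

theorem pb_comp_of_isOpenImmersion [P.IsStableUnderComposition]
    (hopen : ∀ {A B : Scheme.{u}} (g : A ⟶ B) [IsOpenImmersion g], P g)
    {U V Y T : Scheme.{u}} (f : U ⟶ V) (ι : V ⟶ Y) [IsOpenImmersion ι] (m : T ⟶ Y)
    (h : Pb P f (pullback.snd m ι)) : Pb P (f ≫ ι) m :=
  (pb_iff_of_isPullback ((IsPullback.of_hasPullback (pullback.snd m ι) f).flip.paste_vert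
    (IsPullback.of_hasPullback m ι).flip)).mp (P.comp_mem _ _ h (hopen _))

end Pb

variable {I : Type u} [Category.{u} I] [IsCofiltered I] {D : I ⥤ Scheme.{u}} {c : Cone D}
  [∀ {i j} (f : i ⟶ j), IsAffineHom (D.map f)]
  {P : MorphismProperty Scheme.{u}} [P.IsStableUnderBaseChange] [IsZariskiLocalAtSource P]
  [P.IsStableUnderComposition]

/-- A source-local property descends from the limit for a compact source. -/
theorem exists_pb_of_compactSpace
    (hopen : ∀ {A B : Scheme.{u}} (g : A ⟶ B) [IsOpenImmersion g], P g)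
    (h : Descends P qcqsfp) (hc : IsLimit c) {i : I} {X₀ Y₀ : Scheme.{u}} (f₀ : X₀ ⟶ Y₀)
    (g₀ : Y₀ ⟶ D.obj i) [CompactSpace X₀] [LocallyOfFinitePresentation g₀]
    [LocallyOfFinitePresentation (f₀ ≫ g₀)] {X Y : Scheme.{u}} {f : X ⟶ Y} {g : Y ⟶ c.pt}
    {qY : Y ⟶ Y₀} {qX : X ⟶ X₀} (hY : IsPullback qY g g₀ (c.π.app i))
    (hX : IsPullback qX f f₀ qY) (hP : P f) :
    ∃ (j : I) (φ : j ⟶ i), Pb P f₀ (pullback.snd (D.map φ) g₀) := by
  classical
  have key : ∀ x : X₀, ∃ (U : X₀.Opens) (_ : x ∈ U) (j : I) (φ : j ⟶ i),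
      Pb P (U.ι ≫ f₀) (pullback.snd (D.map φ) g₀) := by
    intro x
    obtain ⟨V, hV, hxV, -⟩ := exists_isAffineOpen_mem_and_subset
      (X := Y₀) (x := f₀ x) (U := ⊤) trivial
    obtain ⟨U, hU, hxU, hUV⟩ := exists_isAffineOpen_mem_and_subset
      (X := X₀) (x := x) (U := f₀ ⁻¹ᵁ V) hxV
    haveI : IsAffine V.toScheme := hV
    haveI : IsAffine U.toScheme := hU
    let a : U.toScheme ⟶ V.toScheme := f₀.resLE V U hUV
    have ha : a ≫ V.ι = U.ι ≫ f₀ := Scheme.Hom.resLE_comp_ι ..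
    haveI : LocallyOfFinitePresentation (a ≫ V.ι ≫ g₀) := by
      rw [reassoc_of% ha]
      infer_instance
    haveI : LocallyOfFinitePresentation a := Groth.Agent.S12442.result a (V.ι ≫ g₀)
    haveI : IsAffineHom a := isAffineHom_of_isAffine a
    have hY' : IsPullback (pullback.snd qY V.ι) (pullback.fst qY V.ι ≫ g) (V.ι ≫ g₀)
        (c.π.app i) := (IsPullback.of_hasPullback qY V.ι).flip.paste_vert hY
    have hPU : Pb P (a ≫ V.ι) qY := by
      rw [ha]
      exact (pb_iff_of_isPullback ((isPullback_morphismRestrict qX U).paste_vert hX)).mp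
        (IsZariskiLocalAtSource.comp hP _)
    have hPa : Pb P a (pullback.snd qY V.ι) := pb_of_mono a V.ι _ (by
      rw [← pullback.condition]
      exact pb_comp _ hPU)
    obtain ⟨j, φ, hj⟩ := h.exists_pb hc a (V.ι ≫ g₀)
      ⟨⟨inferInstance, inferInstance⟩, inferInstance⟩ hY' hPa
    refine ⟨U, hxU, j, φ, ?_⟩
    rw [← ha]
    refine pb_comp_of_isOpenImmersion hopen a V.ι _ ?_
    let e : pullback (pullback.snd (D.map φ) g₀) V.ι ⟶ pullback (D.map φ) (V.ι ≫ g₀) :=
      pullback.lift (pullback.fst _ _ ≫ pullback.fst _ _) (pullback.snd _ _) (by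
        rw [Category.assoc, pullback.condition, ← pullback.condition_assoc])
    rw [show pullback.snd (pullback.snd (D.map φ) g₀) V.ι =
      e ≫ pullback.snd (D.map φ) (V.ι ≫ g₀) from (pullback.lift_snd _ _ _).symm]
    exact pb_comp _ hj
  choose U hxU j φ hU using key
  obtain ⟨t, ht⟩ := isCompact_univ.elim_finite_subcover (fun x => ((U x : X₀.Opens) : Set X₀))
    (fun x => (U x).2) fun x _ => Set.mem_iUnion.mpr ⟨x, hxU x⟩
  obtain ⟨l, ψ, χ, hχ⟩ := IsCofiltered.wideCospan (fun x : t => φ x.1)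
  refine ⟨l, ψ, ?_⟩
  let m := pullback.snd (D.map ψ) g₀
  let W : t → (pullback m f₀).Opens := fun x => pullback.snd m f₀ ⁻¹ᵁ U x.1
  refine (IsZariskiLocalAtSource.iff_of_openCover (P := P)
    (Scheme.openCoverOfIsOpenCover _ W (.mk (eq_top_iff.mpr fun y _ => by
      obtain ⟨x, hx⟩ := Set.mem_iUnion.mp (ht (Set.mem_univ (pullback.snd m f₀ y)))
      obtain ⟨hxt, hyx⟩ := Set.mem_iUnion.mp hx
      exact Opens.mem_iSup.mpr ⟨⟨x, hxt⟩, hyx⟩)))).mpr fun x => ?_
  refine (pb_iff_of_isPullback ((isPullback_morphismRestrict (pullback.snd m f₀) (U x.1)).paste_vert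
    (IsPullback.of_hasPullback m f₀).flip)).mpr ?_
  let e : pullback (D.map ψ) g₀ ⟶ pullback (D.map (φ x.1)) g₀ :=
    pullback.lift (pullback.fst _ _ ≫ D.map (χ x)) (pullback.snd _ _) (by
      rw [Category.assoc, ← D.map_comp, hχ x, pullback.condition])
  rw [show m = e ≫ pullback.snd (D.map (φ x.1)) g₀ from (pullback.lift_snd _ _ _).symm]
  exact pb_comp _ (hU x.1)

/-- The form of descent used by the milestones. -/
theorem iff_exists_stage (hopen : ∀ {A B : Scheme.{u}} (g : A ⟶ B) [IsOpenImmersion g], P g)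
    (h : Descends P qcqsfp) (hc : IsLimit c) {i : I} {X₀ Y₀ : Scheme.{u}} (f₀ : X₀ ⟶ Y₀)
    (g₀ : Y₀ ⟶ D.obj i) [CompactSpace X₀] [LocallyOfFinitePresentation g₀]
    [LocallyOfFinitePresentation (f₀ ≫ g₀)] {X Y : Scheme.{u}} (f : X ⟶ Y) (g : Y ⟶ c.pt)
    (qY : Y ⟶ Y₀) (qX : X ⟶ X₀) (hY : IsPullback qY g g₀ (c.π.app i))
    (hX : IsPullback qX f f₀ qY) :
    P f ↔ ∃ (j : I) (φ : j ⟶ i) (Xj Yj : Scheme.{u}) (fj : Xj ⟶ Yj) (gj : Yj ⟶ D.obj j)
      (pY : Yj ⟶ Y₀) (pX : Xj ⟶ X₀),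
      IsPullback pY gj g₀ (D.map φ) ∧ IsPullback pX fj f₀ pY ∧ P fj := by
  constructor
  · intro hP
    obtain ⟨j, φ, hj⟩ := exists_pb_of_compactSpace hopen h hc f₀ g₀ hY hX hP
    exact ⟨j, φ, _, _, _, _, _, _, (IsPullback.of_hasPullback (D.map φ) g₀).flip,
      isPullback_stageHom f₀ g₀ (Over.mk φ),
      (pb_iff_of_isPullback (isPullback_stageHom f₀ g₀ (Over.mk φ))).mpr hj⟩
  · rintro ⟨j, φ, Xj, Yj, fj, gj, pY, pX, h1, h2, h3⟩
    exact of_stage hY hX h1 h2 h3

/-- The local form of descent used by the milestones. -/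
theorem exists_nhd_iff_exists_stage
    (hopen : ∀ {A B : Scheme.{u}} (g : A ⟶ B) [IsOpenImmersion g], P g)
    (h : Descends P qcqsfp) (hc : IsLimit c) {i : I} {X₀ Y₀ : Scheme.{u}} (f₀ : X₀ ⟶ Y₀)
    (g₀ : Y₀ ⟶ D.obj i) [LocallyOfFinitePresentation g₀]
    [LocallyOfFinitePresentation (f₀ ≫ g₀)] {X Y : Scheme.{u}} (f : X ⟶ Y) (g : Y ⟶ c.pt)
    (qY : Y ⟶ Y₀) (qX : X ⟶ X₀) (hY : IsPullback qY g g₀ (c.π.app i))
    (hX : IsPullback qX f f₀ qY) (x : ↥X) :
    (∃ U : X.Opens, x ∈ U ∧ P (U.ι ≫ f)) ↔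
      ∃ (j : I) (φ : j ⟶ i) (Xj Yj : Scheme.{u}) (fj : Xj ⟶ Yj) (gj : Yj ⟶ D.obj j)
        (pY : Yj ⟶ Y₀) (pX : Xj ⟶ X₀) (rX : X ⟶ Xj),
        IsPullback pY gj g₀ (D.map φ) ∧ IsPullback pX fj f₀ pY ∧
          rX ≫ pX = qX ∧ rX ≫ fj ≫ gj = f ≫ g ≫ c.π.app j ∧
            ∃ V : Xj.Opens, rX.base x ∈ V ∧ P (V.ι ≫ fj) := by
  constructor
  · rintro ⟨U, hxU, hU⟩
    obtain ⟨W, hWaff, hxW, hWU⟩ := exists_isAffineOpen_mem_and_subset hxU
    have hW : P (W.ι ≫ f) := by
      rw [← Scheme.homOfLE_ι X (show W ≤ U from hWU), Category.assoc]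
      exact P.comp_mem _ _ (hopen _) hU
    let J : Over i := Over.mk (𝟙 i)
    obtain ⟨k, -, V, hVc, hVW⟩ := exists_isCompact_preimage_eq
      (isLimitSqCone hc (hX.paste_vert hY)) J W hWaff.isCompact
    haveI : CompactSpace V.toScheme := isCompact_iff_compactSpace.mp hVc
    have hWV : W = toStage (hX.paste_vert hY) k ⁻¹ᵁ V := SetLike.coe_injective hVW.symm
    subst hWV
    have hY₁ : IsPullback (toStage hY k) g (pullback.fst (D.map k.hom) g₀) (c.π.app k.left) :=
      IsPullback.of_right (by rw [toStage_snd, c.w]; exact hY) (toStage_fst hY k)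
        (IsPullback.of_hasPullback (D.map k.hom) g₀).flip
    have hX₁ := (isPullback_morphismRestrict (toStage (hX.paste_vert hY) k) V).paste_vert
      (isPullback_toStage hY hX k)
    haveI : LocallyOfFinitePresentation (pullback.fst (D.map k.hom) g₀) :=
      MorphismProperty.pullback_fst _ _ inferInstance
    haveI : LocallyOfFinitePresentation (pullback.fst (D.map k.hom) (f₀ ≫ g₀)) :=
      MorphismProperty.pullback_fst _ _ inferInstance
    haveI : LocallyOfFinitePresentation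
        ((V.ι ≫ stageHom f₀ g₀ k) ≫ pullback.fst (D.map k.hom) g₀) := by
      rw [Category.assoc, stageHom_fst]
      infer_instance
    obtain ⟨l, ψ, hl⟩ := exists_pb_of_compactSpace hopen h hc (V.ι ≫ stageHom f₀ g₀ k)
      (pullback.fst (D.map k.hom) g₀) hY₁ hX₁ hW
    let L : Over i := Over.mk (ψ ≫ k.hom)
    let m : L ⟶ k := Over.homMk ψ rfl
    have hsnd : (bcDiagram D g₀).map m ≫ pullback.snd (D.map k.hom) g₀ =
        pullback.snd (D.map L.hom) g₀ := (pullback.lift_snd ..).trans (Category.comp_id _)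
    have hsnd' : (bcDiagram D (f₀ ≫ g₀)).map m ≫ pullback.snd (D.map k.hom) (f₀ ≫ g₀) =
        pullback.snd (D.map L.hom) (f₀ ≫ g₀) := (pullback.lift_snd ..).trans (Category.comp_id _)
    have hsq : IsPullback ((bcDiagram D (f₀ ≫ g₀)).map m) (stageHom f₀ g₀ L) (stageHom f₀ g₀ k)
        ((bcDiagram D g₀).map m) := by
      refine IsPullback.of_right ?_ ?_ (isPullback_stageHom f₀ g₀ k)
      · rw [hsnd, hsnd']
        exact isPullback_stageHom f₀ g₀ L
      · apply pullback.hom_ext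
        · simp [stageHom, bcDiagram]
        · simp [stageHom, bcDiagram]
    refine ⟨l, ψ ≫ k.hom, _, _, stageHom f₀ g₀ L, _, _, _, toStage (hX.paste_vert hY) L,
      (IsPullback.of_hasPullback (D.map (ψ ≫ k.hom)) g₀).flip, isPullback_stageHom f₀ g₀ L,
      toStage_snd (hX.paste_vert hY) L, ?_, (bcDiagram D (f₀ ≫ g₀)).map m ⁻¹ᵁ V, ?_, ?_⟩
    · exact (congrArg (toStage (hX.paste_vert hY) L ≫ ·) (stageHom_fst f₀ g₀ L)).trans
        ((toStage_fst (hX.paste_vert hY) L).trans (Category.assoc ..))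
    · show (bcDiagram D (f₀ ≫ g₀)).map m (toStage (hX.paste_vert hY) L x) ∈ V
      rw [← Scheme.Hom.comp_apply,
        show toStage (hX.paste_vert hY) L ≫ (bcDiagram D (f₀ ≫ g₀)).map m =
          toStage (hX.paste_vert hY) k from (sqCone (hX.paste_vert hY)).w m]
      exact hxW
    · refine (pb_iff_of_isPullback
        ((isPullback_morphismRestrict ((bcDiagram D (f₀ ≫ g₀)).map m) V).paste_vert hsq)).mpr ?_
      let e : (bcDiagram D g₀).obj L ⟶ pullback (D.map ψ) (pullback.fst (D.map k.hom) g₀) :=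
        pullback.lift (pullback.fst _ _) ((bcDiagram D g₀).map m) (by simp [bcDiagram, m])
      rw [show (bcDiagram D g₀).map m =
        e ≫ pullback.snd (D.map ψ) (pullback.fst (D.map k.hom) g₀) from (pullback.lift_snd _ _ _).symm]
      exact pb_comp _ hl
  · rintro ⟨j, φ, Xj, Yj, fj, gj, pY, pX, rX, h1, h2, h3, h4, V, hxV, hV⟩
    let s : Y ⟶ Yj := h1.lift qY (g ≫ c.π.app j) (by rw [Category.assoc, c.w]; exact hY.w)
    have e : rX ≫ fj = f ≫ s := h1.hom_ext
      (by rw [Category.assoc, Category.assoc, h1.lift_fst, ← h2.w, reassoc_of% h3]; exact hX.w)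
      (by rw [Category.assoc, Category.assoc, h1.lift_snd]; exact h4)
    have hsq : IsPullback rX f fj s :=
      IsPullback.of_right (by rw [h3, h1.lift_fst]; exact hX) e h2
    exact ⟨rX ⁻¹ᵁ V, hxV, MorphismProperty.of_isPullback
      ((isPullback_morphismRestrict rX V).paste_vert hsq) hV⟩

end Groth.L05.LimitLocal
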