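import Mathlib.RingTheory.Unramified.Locus
import Mathlib.RingTheory.Kaehler.TensorProduct
import Mathlib.RingTheory.LinearDisjoint
import Mathlib.RingTheory.Localization.AtPrime.Basic
import Mathlib.LinearAlgebra.Matrix.Charpoly.LinearMap
import Mathlib.FieldTheory.Minpoly.Field
import Mathlib.RingTheory.LocalRing.ResidueField.Basic
import Mathlib.RingTheory.Nakayama
import Mathlib.Algebra.Polynomial.Lifts

/-!
# Monogenic finite algebras over a local ring
-/

set_option autoImplicit false
set_option linter.style.haveILetI false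

universe u

open Polynomial

namespace Groth.L05

variable {A : Type u} [CommRing A] [IsLocalRing A] {C : Type u} [CommRing C] [Algebra A C]
  [Module.Finite A C]

theorem map_maximalIdeal_le (r : Ideal C) [r.IsMaximal] :
    (IsLocalRing.maximalIdeal A).map (algebraMap A C) ≤ r := by
  haveI : Algebra.IsIntegral A C := Algebra.IsIntegral.of_finite A C
  have hmax : (r.under A).IsMaximal := Ideal.isMaximal_comap_of_isIntegral_of_isMaximal r
  rw [Ideal.map_le_iff_le_comap, ← IsLocalRing.eq_maximalIdeal hmax]

/-- `u ^ N` moves `y` into `m C` if some element outside `r` does. -/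
theorem exists_pow_mul_mem (r : Ideal C) [r.IsMaximal] (u : C)
    (hu₁ : ∀ r' : Ideal C, r'.IsMaximal → r' ≠ r → u ∈ r') {c y : C} (hc : c ∉ r)
    (hy : c * y ∈ (IsLocalRing.maximalIdeal A).map (algebraMap A C)) :
    ∃ N : ℕ, u ^ N * y ∈ (IsLocalRing.maximalIdeal A).map (algebraMap A C) := by
  set M := (IsLocalRing.maximalIdeal A).map (algebraMap A C)
  set I : Ideal C := LinearMap.ker ((Submodule.mkQ M).comp (LinearMap.toSpanSingleton C C y))
  have hI : ∀ x, x ∈ I ↔ x * y ∈ M := fun x => by
    simp [I, LinearMap.mem_ker, ← map_mul, Ideal.Quotient.eq_zero_iff_mem]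
  suffices h : u ∈ I.radical by
    obtain ⟨N, hN⟩ := h
    exact ⟨N, (hI _).mp hN⟩
  rw [Ideal.radical_eq_sInf, Ideal.mem_sInf]
  rintro P ⟨hIP, hP⟩
  haveI := hP
  haveI : Algebra.IsIntegral A C := Algebra.IsIntegral.of_finite A C
  have hMP : M ≤ P := fun x hx => hIP ((hI x).mpr (Ideal.mul_mem_right _ _ hx))
  have hPA : P.under A = IsLocalRing.maximalIdeal A :=
    le_antisymm (IsLocalRing.le_maximalIdeal (Ideal.IsPrime.ne_top inferInstance))
      (Ideal.map_le_iff_le_comap.mp hMP)
  have hPmax : P.IsMaximal :=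
    Ideal.isMaximal_of_isIntegral_of_isMaximal_comap P
      (show (P.under A).IsMaximal by rw [hPA]; infer_instance)
  exact hu₁ P hPmax fun h => hc (h ▸ hIP ((hI c).mpr hy))

/-- The local ring of `C` at `r` is that of `A[u]`. -/
theorem localRingHom_adjoin_bijective (r : Ideal C) [r.IsMaximal] (u : C)
    (hu₁ : ∀ r' : Ideal C, r'.IsMaximal → r' ≠ r → u ∈ r') (hu₂ : u ∉ r)
    (hu₃ : Subalgebra.toSubmodule (Algebra.adjoin A {algebraMap C (Localization.AtPrime r) u}) ⊔
        Submodule.restrictScalars A (Ideal.map (algebraMap A (Localization.AtPrime r))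
          (IsLocalRing.maximalIdeal A)) = ⊤) :
    Function.Bijective (Localization.localRingHom
      (Ideal.comap (Algebra.adjoin A ({u} : Set C)).val.toRingHom r) r
      (Algebra.adjoin A ({u} : Set C)).val.toRingHom rfl) := by
  set s := Algebra.adjoin A ({u} : Set C)
  set m := IsLocalRing.maximalIdeal A
  have hus : u ∈ s := Algebra.self_mem_adjoin_singleton A u
  -- every element is moved into `s + m C` by a power of `u`
  have h1 : ∀ y : C, ∃ N : ℕ, ∃ a ∈ s, u ^ N * y - a ∈ m.map (algebraMap A C) := by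
    intro y
    obtain ⟨a, ha, z, hz, haz⟩ := Submodule.mem_sup.mp (hu₃.ge (Submodule.mem_top (R := A)
      (x := algebraMap C (Localization.AtPrime r) y)))
    obtain ⟨a, has, rfl⟩ : ∃ a' ∈ s, algebraMap C (Localization.AtPrime r) a' = a := by
      have : Algebra.adjoin A {algebraMap C (Localization.AtPrime r) u} =
          s.map (IsScalarTower.toAlgHom A C (Localization.AtPrime r)) := by
        rw [AlgHom.map_adjoin_singleton]
        rfl
      rw [Subalgebra.mem_toSubmodule, this] at ha
      exact ha
    rw [Submodule.restrictScalars_mem, IsScalarTower.algebraMap_eq A C (Localization.AtPrime r),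
      ← Ideal.map_map, show z = algebraMap C (Localization.AtPrime r) (y - a) by
        rw [map_sub, ← haz, add_sub_cancel_left],
      IsLocalization.algebraMap_mem_map_algebraMap_iff r.primeCompl] at hz
    obtain ⟨c, hc, hcy⟩ := hz
    obtain ⟨N, hN⟩ := exists_pow_mul_mem r u hu₁ hc hcy
    exact ⟨N, u ^ N * a, mul_mem (pow_mem hus N) has, by rwa [← mul_sub]⟩
  -- uniform exponent
  classical
  obtain ⟨G, hG⟩ := (inferInstance : Module.Finite A C).fg_top
  choose N a has ha using h1
  set K := G.sup N
  have h2 : ∀ y : C, ∃ a ∈ s, u ^ K * y - a ∈ m.map (algebraMap A C) := by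
    intro y
    have hy : y ∈ Submodule.span A (G : Set C) := hG ▸ Submodule.mem_top
    refine Submodule.span_induction (p := fun y _ => ∃ a ∈ s, u ^ K * y - a ∈ m.map (algebraMap A C))
      ?_ ⟨0, zero_mem _, by simp⟩ ?_ ?_ hy
    · intro g hg
      refine ⟨u ^ (K - N g) * a g, mul_mem (pow_mem hus _) (has g), ?_⟩
      have : u ^ K = u ^ (K - N g) * u ^ N g := by
        rw [← pow_add, Nat.sub_add_cancel (Finset.le_sup (Finset.mem_coe.mp hg))]
      rw [this, mul_assoc, ← mul_sub]
      exact Ideal.mul_mem_left _ _ (ha g)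
    · rintro x y - - ⟨b, hb, hb'⟩ ⟨c, hc, hc'⟩
      exact ⟨b + c, add_mem hb hc, by rw [mul_add, add_sub_add_comm]; exact add_mem hb' hc'⟩
    · rintro t x - ⟨b, hb, hb'⟩
      exact ⟨t • b, Subalgebra.smul_mem _ hb t, by
        rw [mul_smul_comm, ← smul_sub, Algebra.smul_def]; exact Ideal.mul_mem_left _ _ hb'⟩
  -- the determinant trick on `C ⧸ s`
  set S := Subalgebra.toSubmodule s
  let f : (C ⧸ S) →ₗ[A] (C ⧸ S) := S.mapQ S (LinearMap.mulLeft A (u ^ K)) fun x hx =>
    mul_mem (pow_mem hus K) hx
  have hf : LinearMap.range f ≤ m • (⊤ : Submodule A (C ⧸ S)) := by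
    rintro _ ⟨x, rfl⟩
    obtain ⟨y, rfl⟩ := Submodule.Quotient.mk_surjective _ x
    obtain ⟨b, hb, hby⟩ := h2 y
    have h : Submodule.Quotient.mk (p := S) (u ^ K * y - b) ∈ (m • (⊤ : Submodule A C)).map S.mkQ := by
      refine Submodule.mem_map_of_mem (f := S.mkQ) ?_
      rw [Ideal.smul_top_eq_map]
      exact hby
    rw [Submodule.map_smul'', Submodule.map_top, Submodule.range_mkQ, Submodule.Quotient.mk_sub,
      (Submodule.Quotient.mk_eq_zero S).mpr hb, sub_zero] at h
    exact h
  obtain ⟨P, hPm, -, hPc, hP⟩ :=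
    f.exists_monic_and_coeff_mem_pow_and_aeval_eq_zero_of_range_le_smul A m hf
  haveI : r.LiesOver (Ideal.comap s.val.toRingHom r) := ⟨rfl⟩
  refine Localization.localRingHom_bijective_of_saturated_inf_eq_top (s := s) (P := r)
    (H := top_le_iff.mp fun y _ => ⟨aeval (u ^ K) P, ⟨?_, ?_⟩, ?_⟩) (p := _)
  · show aeval (u ^ K) P ∉ r
    rw [aeval_eq_sum_range, Finset.sum_range_succ, Polynomial.Monic.coeff_natDegree hPm, one_smul]
    intro h
    refine hu₂ (Ideal.IsPrime.mem_of_pow_mem inferInstance (K * P.natDegree) ?_)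
    rw [pow_mul]
    refine (Ideal.add_mem_iff_right _ (sum_mem fun i hi => ?_)).mp h
    rw [Algebra.smul_def]
    refine Ideal.mul_mem_right _ _ (map_maximalIdeal_le r (Ideal.mem_map_of_mem _ ?_))
    exact Ideal.pow_le_self (by have := Finset.mem_range.mp hi; omega) (hPc i)
  · show aeval (u ^ K) P ∈ s
    rw [aeval_eq_sum_range]
    exact sum_mem fun i _ => Subalgebra.smul_mem _ (pow_mem (pow_mem hus K) i) _
  · show aeval (u ^ K) P * y ∈ s
    have h := LinearMap.congr_fun hP (Submodule.Quotient.mk y)
    rw [LinearMap.zero_apply] at h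
    have key : ∀ (Q : A[X]) (x : C), aeval f Q (Submodule.Quotient.mk x) =
        Submodule.Quotient.mk (p := S) (aeval (u ^ K) Q * x) := by
      intro Q
      induction Q using Polynomial.induction_on with
      | C a => intro x; simp [Algebra.smul_def, ← Submodule.Quotient.mk_smul]
      | add p q hp hq => intro x; simp [hp, hq, add_mul]
      | monomial n a ih =>
        intro x
        rw [pow_succ, ← mul_assoc, map_mul, aeval_X, Module.End.mul_apply]
        show aeval f (Polynomial.C a * X ^ n) (Submodule.Quotient.mk (u ^ K * x)) = _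
        rw [ih, map_mul (aeval (u ^ K)) _ X, aeval_X, mul_assoc _ (u ^ K) x]
    rw [key, Submodule.Quotient.mk_eq_zero] at h
    exact h

/-- A monogenic finite algebra over a local ring has an equation which is separable at the unramified
maximal ideals. -/
theorem exists_monic_derivative_notMem (u : C) (hu : Algebra.adjoin A ({u} : Set C) = ⊤) :
    ∃ F : A[X], F.Monic ∧ aeval u F = 0 ∧
      ∀ (n : Ideal C) [n.IsMaximal], Algebra.IsUnramifiedAt A n → aeval u (derivative F) ∉ n := by
  classical
  set m := IsLocalRing.maximalIdeal A with hm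
  haveI : Module.Finite (A ⧸ m) (C ⧸ m.map (algebraMap A C)) :=
    Module.Finite.of_restrictScalars_finite A _ _
  letI : Field (A ⧸ m) := Ideal.Quotient.field m
  set ub : C ⧸ m.map (algebraMap A C) := Ideal.Quotient.mk _ u
  set φ := minpoly (A ⧸ m) ub
  have hint : IsIntegral (A ⧸ m) ub := (Algebra.IsIntegral.of_finite _ _).isIntegral ub
  have hφm : φ.Monic := minpoly.monic hint
  have hub : ∀ g : A[X], aeval ub (g.map (Ideal.Quotient.mk m)) = Ideal.Quotient.mk _ (aeval u g) := by
    intro g
    rw [aeval_def, eval₂_map, aeval_def, hom_eval₂]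
    rfl
  have hsurj : Function.Surjective (aeval u : A[X] →ₐ[A] C) := by
    rw [← AlgHom.range_eq_top, ← Algebra.adjoin_singleton_eq_range_aeval, hu]
  obtain ⟨F₀, hF₀, hF₀d, hF₀m⟩ := lifts_and_natDegree_eq_and_monic
    (show φ ∈ lifts (Ideal.Quotient.mk m) from map_surjective _ Ideal.Quotient.mk_surjective φ) hφm
  set d := φ.natDegree
  -- Nakayama
  have hspan : (degreeLT A d).map (aeval u).toLinearMap = ⊤ := by
    refine top_le_iff.mp (Submodule.le_of_le_smul_of_le_jacobson_bot (I := m) Module.Finite.fg_top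
      (IsLocalRing.maximalIdeal_le_jacobson ⊥) fun y _ => ?_)
    obtain ⟨g, rfl⟩ := hsurj y
    rw [← modByMonic_add_div g F₀, map_add, map_mul]
    refine Submodule.add_mem_sup ⟨g %ₘ F₀, ?_, rfl⟩ ?_
    · rw [SetLike.mem_coe, mem_degreeLT]
      refine (degree_modByMonic_lt g hF₀m).trans_le ?_
      rw [degree_eq_natDegree hF₀m.ne_zero, hF₀d]
    · rw [Ideal.smul_top_eq_map]
      show aeval u F₀ * _ ∈ m.map (algebraMap A C)
      refine Ideal.mul_mem_right _ _ ?_
      rw [← Ideal.Quotient.eq_zero_iff_mem, ← hub, hF₀]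
      exact minpoly.aeval _ _
  obtain ⟨g, hg, hgu⟩ := hspan.ge (Submodule.mem_top (R := A) (x := u ^ d))
  rw [SetLike.mem_coe, mem_degreeLT] at hg
  set F := X ^ d - g
  have hFm : F.Monic := monic_X_pow_sub hg
  have hFu : aeval u F = 0 := by
    rw [map_sub, map_pow, aeval_X, sub_eq_zero]
    exact hgu.symm
  have hFd : F.degree ≤ d := (degree_sub_le _ _).trans (max_le (degree_X_pow_le d) hg.le)
  refine ⟨F, hFm, hFu, fun n hn hunr hmem => ?_⟩
  haveI := hn
  have hmn : m.map (algebraMap A C) ≤ n := map_maximalIdeal_le n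
  -- the derivation
  have hwd : ∀ g : A[X], aeval u g = 0 → aeval u (derivative g) ∈ n := by
    intro g hg
    set r := g %ₘ F
    have hr : aeval u r = 0 := by rw [aeval_modByMonic_eq_self_of_root hFu, hg]
    have hr0 : r.map (Ideal.Quotient.mk m) = 0 := by
      by_contra h
      have h1 := minpoly.degree_le_of_ne_zero (A ⧸ m) ub h (by rw [hub, hr, map_zero])
      have h2 : r.degree < d := (degree_modByMonic_lt g hFm).trans_le hFd
      rw [degree_eq_natDegree hφm.ne_zero] at h1
      exact not_lt.mpr h1 (degree_map_le.trans_lt h2)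
    rw [← modByMonic_add_div g F, derivative_add, map_add, derivative_mul, map_add, map_mul, map_mul,
      hFu, zero_mul, add_zero]
    refine add_mem ?_ (Ideal.mul_mem_right _ _ hmem)
    refine hmn ?_
    rw [← Ideal.Quotient.eq_zero_iff_mem, ← hub, ← derivative_map, hr0, derivative_zero, map_zero]
  let D' : C → C ⧸ n := fun y => Ideal.Quotient.mk n (aeval u (derivative (Function.surjInv hsurj y)))
  have hD' : ∀ g : A[X], D' (aeval u g) = Ideal.Quotient.mk n (aeval u (derivative g)) := fun g => by
    show Ideal.Quotient.mk n _ = _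
    rw [Ideal.Quotient.eq, ← map_sub, ← derivative_sub]
    refine hwd _ ?_
    rw [map_sub, Function.surjInv_eq hsurj, sub_self]
  let L : C →ₗ[A] C ⧸ n :=
    { toFun := D'
      map_add' := fun x y => by
        obtain ⟨p, rfl⟩ := hsurj x
        obtain ⟨q, rfl⟩ := hsurj y
        rw [← map_add, hD', hD', hD', derivative_add, map_add, map_add]
      map_smul' := fun a x => by
        obtain ⟨p, rfl⟩ := hsurj x
        rw [← map_smul, hD', hD', derivative_smul, map_smul, RingHom.id_apply]
        rfl }
  let D : Derivation A C (C ⧸ n) := Derivation.mk' L fun x y => by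
    obtain ⟨p, rfl⟩ := hsurj x
    obtain ⟨q, rfl⟩ := hsurj y
    show D' _ = _ • D' _ + _ • D' _
    rw [← map_mul, hD', hD', hD', derivative_mul, Algebra.smul_def, Algebra.smul_def,
      Ideal.Quotient.algebraMap_eq, map_add, map_add, map_mul, map_mul, map_mul, map_mul]
    ring
  have hDu : D u = 1 := by
    show D' u = 1
    have := hD' X
    rw [aeval_X, derivative_X, map_one, map_one] at this
    exact this
  haveI : Algebra.FormallyUnramified A (Localization.AtPrime n) := hunr
  haveI : Subsingleton (Ω[Localization.AtPrime n⁄A]) := Algebra.FormallyUnramified.subsingleton_kaehlerDifferential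
  haveI := KaehlerDifferential.isLocalizedModule_map A C (Localization.AtPrime n) n.primeCompl
  obtain ⟨t, ht⟩ := IsLocalizedModule.exists_of_eq (S := n.primeCompl)
    (f := KaehlerDifferential.map A A C (Localization.AtPrime n))
    (x₁ := KaehlerDifferential.D A C u) (x₂ := 0) (Subsingleton.elim _ _)
  have := congrArg D.liftKaehlerDifferential ht
  rw [Submonoid.smul_def, map_smul, Derivation.liftKaehlerDifferential_comp_D, hDu, smul_zero,
    map_zero, Algebra.smul_def, mul_one, Ideal.Quotient.algebraMap_eq, Ideal.Quotient.eq_zero_iff_mem] at this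
  exact t.2 this

end Groth.L05
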