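import Mathlib.AlgebraicGeometry.Morphisms.Etale
import Mathlib.RingTheory.Etale.StandardEtale
import Mathlib.RingTheory.Unramified.LocalStructure

/-!
# Étale morphisms are locally open pieces of monogenic ones
-/

set_option autoImplicit false
set_option linter.style.haveILetI false
set_option backward.isDefEq.respectTransparency.types false
set_option backward.isDefEq.respectTransparency false

universe u

open CategoryTheory AlgebraicGeometry Polynomial

namespace Groth.L05

/-- The ring level statement. -/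
theorem exists_openImmersion_monogenic_ring {R S : Type u} [CommRing R] [CommRing S] [Algebra R S]
    [Algebra.IsStandardEtale R S] :
    ∃ (p : R[X]) (_ : p.Monic) (χ : Localization.Away (AdjoinRoot.mk p (derivative p)) →ₐ[R] S),
      IsOpenImmersion (Spec.map (CommRingCat.ofHom χ.toRingHom)) := by
  obtain ⟨P⟩ : Nonempty (StandardEtalePresentation R S) := inferInstance
  let p := P.P.f
  let u : AdjoinRoot p →ₐ[R] S := AdjoinRoot.liftAlgHom p (Algebra.ofId R S) P.x P.hasMap.1
  have hu : IsUnit (u (AdjoinRoot.mk p (derivative p))) := by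
    rw [show u (AdjoinRoot.mk p (derivative p)) = aeval P.x (derivative p) from AdjoinRoot.liftAlgHom_mk _ _ _ _ _]
    exact P.hasMap.isUnit_derivative_f
  let χ : Localization.Away (AdjoinRoot.mk p (derivative p)) →ₐ[R] S :=
    IsLocalization.Away.liftAlgHom (AdjoinRoot.mk p (derivative p)) (f := u) hu
  refine ⟨p, P.P.monic_f, χ, ?_⟩
  let G := Localization.Away (AdjoinRoot.mk p P.P.g)
  let ε : G ≃ₐ[R] S := P.P.equivAwayAdjoinRoot.symm.trans P.equivRing.symm
  have hεu : (ε.toAlgHom.comp (IsScalarTower.toAlgHom R (AdjoinRoot p) G)) = u := by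
    refine AdjoinRoot.algHom_ext ?_
    show P.equivRing.symm (P.P.equivAwayAdjoinRoot.symm (algebraMap (AdjoinRoot p) G (AdjoinRoot.root p))) = _
    rw [show P.P.equivAwayAdjoinRoot.symm (algebraMap (AdjoinRoot p) G (AdjoinRoot.root p)) = P.P.X by
      rw [AlgEquiv.symm_apply_eq]
      simp [StandardEtalePair.equivAwayAdjoinRoot]
      rfl, StandardEtalePresentation.equivRing_symm_X]
    exact (AdjoinRoot.liftAlgHom_root _ _ _ _).symm
  haveI h1 : IsOpenImmersion (Spec.map (CommRingCat.ofHom (algebraMap (AdjoinRoot p) G))) :=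
    IsOpenImmersion.of_isLocalization (AdjoinRoot.mk p P.P.g)
  haveI : IsIso (CommRingCat.ofHom ε.toAlgHom.toRingHom) :=
    (ConcreteCategory.isIso_iff_bijective (CommRingCat.ofHom ε.toAlgHom.toRingHom)).mpr ε.bijective
  haveI h2 : IsOpenImmersion (Spec.map (CommRingCat.ofHom χ.toRingHom) ≫
      Spec.map (CommRingCat.ofHom
        (algebraMap (AdjoinRoot p) (Localization.Away (AdjoinRoot.mk p (derivative p)))))) := by
    rw [← Spec.map_comp, show CommRingCat.ofHom (algebraMap (AdjoinRoot p)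
        (Localization.Away (AdjoinRoot.mk p (derivative p)))) ≫ CommRingCat.ofHom χ.toRingHom =
      CommRingCat.ofHom (algebraMap (AdjoinRoot p) G) ≫ CommRingCat.ofHom ε.toAlgHom.toRingHom from
      CommRingCat.hom_ext (RingHom.ext fun x => by
        show χ (algebraMap (AdjoinRoot p) _ x) = ε (algebraMap (AdjoinRoot p) G x)
        rw [show χ (algebraMap (AdjoinRoot p) _ x) = u x from IsLocalization.lift_eq _ _, ← hεu]
        rfl), Spec.map_comp]
    infer_instance
  haveI : IsOpenImmersion (Spec.map (CommRingCat.ofHom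
      (algebraMap (AdjoinRoot p) (Localization.Away (AdjoinRoot.mk p (derivative p)))))) :=
    IsOpenImmersion.of_isLocalization (AdjoinRoot.mk p (derivative p))
  exact IsOpenImmersion.of_comp _ (Spec.map (CommRingCat.ofHom
    (algebraMap (AdjoinRoot p) (Localization.Away (AdjoinRoot.mk p (derivative p))))))

/-- The scheme level statement. -/
theorem exists_openImmersion_monogenic {X Y : Scheme.{u}} (φ : X ⟶ Y) (x : X)
    (V : Y.Opens) (hV : IsAffineOpen V) (hxV : φ.base x ∈ V)
    (hφ : ∃ W : X.Opens, x ∈ W ∧ Etale (W.ι ≫ φ)) :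
    ∃ (U : X.Opens) (hU : IsAffineOpen U) (_ : x ∈ U) (e : U ≤ φ ⁻¹ᵁ V)
      (p : Polynomial Γ(Y, V)) (_ : p.Monic)
      (j : U.toScheme ⟶ Spec (CommRingCat.of (Localization.Away (AdjoinRoot.mk p (Polynomial.derivative p))))),
      IsOpenImmersion j ∧
        j ≫ Spec.map (CommRingCat.ofHom
            (algebraMap Γ(Y, V) (Localization.Away (AdjoinRoot.mk p (Polynomial.derivative p))))) =
          hU.isoSpec.hom ≫ Spec.map (φ.appLE V U e) := by
  obtain ⟨W, hxW, hW⟩ := hφ
  obtain ⟨_, ⟨U₀, hU₀, rfl⟩, hxU₀, hle⟩ := X.isBasis_affineOpens.exists_subset_of_mem_open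
    (show x ∈ W ⊓ φ ⁻¹ᵁ V from ⟨hxW, hxV⟩) (W ⊓ φ ⁻¹ᵁ V).isOpen
  have hUV : U₀ ≤ φ ⁻¹ᵁ V := fun z hz => (hle hz).2
  have hUW : U₀ ≤ W := fun z hz => (hle hz).1
  have hetale : Etale (Spec.map (φ.appLE V U₀ hUV)) := by
    haveI := hW
    haveI : Etale (hU₀.fromSpec ≫ φ) := by
      rw [IsAffineOpen.fromSpec, ← X.homOfLE_ι hUW, Category.assoc, Category.assoc]
      infer_instance
    haveI : Etale (Spec.map (φ.appLE V U₀ hUV) ≫ hV.fromSpec) := by
      rw [IsAffineOpen.SpecMap_appLE_fromSpec φ hV hU₀ hUV]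
      infer_instance
    exact MorphismProperty.of_postcomp (W := @Etale) (W' := @Etale) _ hV.fromSpec inferInstance this
  have het : (φ.appLE V U₀ hUV).hom.Etale := (HasRingHomProperty.Spec_iff (P := @Etale)).mp hetale
  algebraize [(φ.appLE V U₀ hUV).hom]
  let Q := hU₀.primeIdealOf ⟨x, hxU₀⟩
  haveI : Algebra.IsEtaleAt Γ(Y, V) Q.asIdeal :=
    Algebra.FormallyEtale.comp Γ(Y, V) Γ(X, U₀) (Localization.AtPrime Q.asIdeal)
  obtain ⟨f, hf, hst⟩ := Algebra.IsEtaleAt.exists_isStandardEtale (R := Γ(Y, V)) Q.asIdeal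
  have hxU : x ∈ X.basicOpen f := by
    have h1 : Q ∈ hU₀.fromSpec ⁻¹ᵁ X.basicOpen f := by
      rw [hU₀.fromSpec_preimage_basicOpen]; exact hf
    exact (congrArg (· ∈ X.basicOpen f) (hU₀.fromSpec_primeIdealOf ⟨x, hxU₀⟩)).mp h1
  have e : X.basicOpen f ≤ φ ⁻¹ᵁ V := (X.basicOpen_le f).trans hUV
  letI := (φ.appLE V (X.basicOpen f) e).hom.toAlgebra
  haveI : IsScalarTower Γ(Y, V) Γ(X, U₀) Γ(X, X.basicOpen f) := .of_algebraMap_eq' <| by
    show (φ.appLE V _ _).hom = (X.presheaf.map _).hom.comp (φ.appLE V U₀ hUV).hom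
    rw [← CommRingCat.hom_comp, Scheme.Hom.appLE_map]
  haveI := hU₀.isLocalization_basicOpen f
  haveI : Algebra.IsStandardEtale Γ(Y, V) Γ(X, X.basicOpen f) :=
    Algebra.IsStandardEtale.of_equiv ((IsLocalization.algEquiv (Submonoid.powers f) (Localization.Away f)
      Γ(X, X.basicOpen f)).restrictScalars Γ(Y, V))
  obtain ⟨p, hp, χ, hχ⟩ := exists_openImmersion_monogenic_ring (R := Γ(Y, V)) (S := Γ(X, X.basicOpen f))
  have hU := hU₀.basicOpen f
  refine ⟨X.basicOpen f, hU, hxU, e, p, hp, hU.isoSpec.hom ≫ Spec.map (CommRingCat.ofHom χ.toRingHom),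
    inferInstance, ?_⟩
  rw [Category.assoc, ← Spec.map_comp]
  congr 2
  exact CommRingCat.hom_ext (RingHom.ext fun r => χ.commutes r)

end Groth.L05
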