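import Mathlib.RingTheory.RingHom.StandardSmooth
import Mathlib.RingTheory.RingHom.Etale
import Mathlib.RingTheory.Smooth.StandardSmoothOfFree
import Mathlib.RingTheory.Etale.Locus
import Mathlib.RingTheory.Smooth.Flat
import Mathlib.RingTheory.Smooth.NoetherianDescent
import Mathlib.RingTheory.QuasiFinite.Basic
import Mathlib.RingTheory.Ideal.GoingDown
import Mathlib.RingTheory.Polynomial.Basic
import Mathlib.RingTheory.LocalRing.ResidueField.Ideal

/-!
# Smooth and quasi-finite implies étale
-/

open Polynomial

namespace Groth.L05.SmoothQF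

universe u

/-- The residue field of a quasi-finite point has no transcendental element. -/
theorem exists_aeval_mem {A B : Type u} [CommRing A] [CommRing B] [Algebra A B] (p : Ideal A)
    [p.IsPrime] (Q : Ideal B) [Q.IsPrime] [Q.LiesOver p] [Algebra.QuasiFiniteAt A Q] (x : B) :
    ∃ f : A[X], (∃ k, f.coeff k ∉ p) ∧ aeval x f ∈ Q := by
  letI := Localization.AtPrime.algebraOfLiesOver p Q
  obtain ⟨F, hF, hFx⟩ := (Algebra.IsAlgebraic.of_finite p.ResidueField Q.ResidueField).isAlgebraic
    (algebraMap B Q.ResidueField x)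
  obtain ⟨⟨b, hb⟩, hbF⟩ := IsLocalization.integerNormalization_map_to_map
    (nonZeroDivisors (A ⧸ p)) F
  set G := IsLocalization.integerNormalization (nonZeroDivisors (A ⧸ p)) F
  obtain ⟨f, hf⟩ := Polynomial.map_surjective (Ideal.Quotient.mk p) Ideal.Quotient.mk_surjective G
  have hfF : f.map (algebraMap A p.ResidueField) =
      algebraMap (A ⧸ p) p.ResidueField b • F := by
    rw [IsScalarTower.algebraMap_eq A (A ⧸ p) p.ResidueField, ← Polynomial.map_map,
      Ideal.Quotient.algebraMap_eq, hf, hbF, Algebra.smul_def, Algebra.smul_def]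
    rfl
  have hb0 : algebraMap (A ⧸ p) p.ResidueField b ≠ 0 :=
    (map_ne_zero_iff _ (IsFractionRing.injective (A ⧸ p) p.ResidueField)).mpr
      (nonZeroDivisors.ne_zero hb)
  refine ⟨f, ?_, ?_⟩
  · by_contra h
    push Not at h
    refine smul_ne_zero hb0 hF (hfF ▸ ?_)
    ext k
    simp [h k]
  · rw [← Ideal.algebraMap_residueField_eq_zero, ← aeval_algebraMap_apply,
      ← aeval_map_algebraMap p.ResidueField, hfF, map_smul, hFx, smul_zero]

theorem isEtaleAt {A B : Type u} [CommRing A] [CommRing B] [Algebra A B]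
    [Algebra.FinitePresentation A B] (q : Ideal B) [q.IsPrime] [Algebra.QuasiFiniteAt A q]
    [Algebra.IsSmoothAt A q] : Algebra.IsEtaleAt A q := by
  obtain ⟨g, hg, hst⟩ := Algebra.IsSmoothAt.exists_notMem_isStandardSmooth A q
  obtain ⟨n, φ, hφC, hφ⟩ := RingHom.IsStandardSmooth.exists_etale_mvPolynomial
    (f := algebraMap A (Localization.Away g)) (RingHom.isStandardSmooth_algebraMap.mpr hst)
  let Q : Ideal (Localization.Away g) := q.map (algebraMap B _)
  have hdisj : Disjoint (Submonoid.powers g : Set B) (q : Set B) :=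
    (Ideal.disjoint_powers_iff_notMem_of_isPrime g).mpr hg
  haveI : Q.IsPrime := IsLocalization.isPrime_of_isPrime_disjoint (.powers g) _ _ ‹_› hdisj
  haveI : Q.LiesOver q :=
    ⟨(IsLocalization.under_map_of_isPrime_disjoint (.powers g) _ ‹_› hdisj).symm⟩
  haveI : Algebra.QuasiFiniteAt A Q :=
    .of_surjectiveOnStalks_of_liesOver q (RingHom.surjectiveOnStalks_of_isLocalization (.powers g) _) Q
  letI := φ.toAlgebra
  haveI : IsScalarTower A (MvPolynomial (Fin n) A) (Localization.Away g) :=
    IsScalarTower.of_algebraMap_eq' hφC.symm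
  haveI : Algebra.Etale (MvPolynomial (Fin n) A) (Localization.Away g) :=
    RingHom.etale_algebraMap.mp hφ
  haveI : Module.Flat (MvPolynomial (Fin n) A) (Localization.Away g) := Algebra.Smooth.flat _ _
  have hn : n = 0 := by
    by_contra hn
    let i : Fin n := ⟨0, Nat.pos_of_ne_zero hn⟩
    let p := Q.under A
    obtain ⟨f, ⟨k, hk⟩, hfx⟩ := exists_aeval_mem p Q
      (algebraMap (MvPolynomial (Fin n) A) (Localization.Away g) (MvPolynomial.X i))
    let pT : Ideal (MvPolynomial (Fin n) A) := p.map MvPolynomial.C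
    haveI : pT.IsPrime := by
      rw [show pT = RingHom.ker (MvPolynomial.map (σ := Fin n) (Ideal.Quotient.mk p)) by
        rw [MvPolynomial.ker_map, Ideal.mk_ker]]
      exact RingHom.ker_isPrime _
    have hle : pT ≤ Q.under (MvPolynomial (Fin n) A) := by
      rw [Ideal.map_le_iff_le_comap]
      intro a ha
      show algebraMap (MvPolynomial (Fin n) A) _ (algebraMap A (MvPolynomial (Fin n) A) a) ∈ Q
      rw [← IsScalarTower.algebraMap_apply]
      exact ha
    obtain ⟨Q', hQ', hQ'p, hQ'o⟩ := Q.exists_ideal_le_liesOver_of_le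
      (p := pT) (q := Q.under (MvPolynomial (Fin n) A)) hle
    have hpT : pT.under A = p := by
      refine le_antisymm (fun a ha => ?_) Ideal.le_comap_map
      have := MvPolynomial.mem_map_C_iff.mp (show MvPolynomial.C a ∈ pT from ha) 0
      simpa using this
    have hQQ : Q' = Q := Algebra.QuasiFiniteAt.eq_of_le_of_under_eq hQ' (by
      show Q'.comap (algebraMap A (Localization.Away g)) = p
      rw [IsScalarTower.algebraMap_eq A (MvPolynomial (Fin n) A) (Localization.Away g),
        ← Ideal.comap_comap]
      exact (congrArg (Ideal.comap _) hQ'o.over.symm).trans hpT)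
    subst hQQ
    have hmem : aeval (MvPolynomial.X i : MvPolynomial (Fin n) A) f ∈ pT := by
      rw [hQ'o.over]
      show algebraMap _ (Localization.Away g) _ ∈ Q
      rw [← aeval_algebraMap_apply]
      exact hfx
    refine hk ?_
    have := MvPolynomial.mem_map_C_iff.mp hmem (Finsupp.single i k)
    rw [aeval_eq_sum_range, MvPolynomial.coeff_sum] at this
    simp only [MvPolynomial.coeff_smul, MvPolynomial.coeff_X_pow, smul_eq_mul] at this
    by_cases hkd : k ≤ f.natDegree
    · rw [Finset.sum_eq_single k (fun j _ hj => by simp [(Finsupp.single_injective i).ne hj])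
        (fun h => absurd (Finset.mem_range.mpr (Nat.lt_succ_of_le hkd)) h)] at this
      simpa using this
    · rw [coeff_eq_zero_of_natDegree_lt (not_le.mp hkd)]
      exact zero_mem p
  subst hn
  haveI : Algebra.Etale A (MvPolynomial (Fin 0) A) :=
    Algebra.Etale.of_equiv (MvPolynomial.isEmptyAlgEquiv A (Fin 0)).symm
  haveI : Algebra.Etale A (Localization.Away g) :=
    Algebra.Etale.comp A (MvPolynomial (Fin 0) A) (Localization.Away g)
  exact (Algebra.basicOpen_subset_etaleLocus_iff (R := A) (f := g)).mpr inferInstance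
    (show (⟨q, ‹_›⟩ : PrimeSpectrum B) ∈ PrimeSpectrum.basicOpen g from hg)

end Groth.L05.SmoothQF
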